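import Groth.Agent.H99.FEtAlg.Extend
import Groth.Agent.S0250

/-!
# Purity and restriction to a hypersurface
-/

set_option autoImplicit false
set_option linter.unusedSectionVars false
set_option linter.style.haveILetI false
set_option backward.isDefEq.respectTransparency false

noncomputable section

universe u

open CategoryTheory CategoryTheory.Limits AlgebraicGeometry IsLocalRing
open Groth.Agent.H80.Clopen (liftOpen liftOpen_ι)

namespace Groth.Agent.H99.FEtAlg

open Groth.Agent.H80.UnivHomeo (ES restrictComp)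

lemma es_of_comp_right {X Y Z : Scheme.{u}} (f : X ⟶ Y) (g : Y ⟶ Z) (h : ES (f ≫ g)) : ES f := by
  refine ⟨fun W => ?_⟩
  obtain ⟨T, ⟨e⟩⟩ := h.mem_essImage W
  exact ⟨(FEt.restrict g).obj T, ⟨((restrictComp f g).app T).symm ≪≫ e⟩⟩

/-- Base change along the identity. -/
noncomputable def restrictId (X : Scheme.{u}) : FEt.restrict (𝟙 X) ≅ 𝟭 (FEt.Cat X) :=
  NatIso.ofComponents
    (fun A => MorphismProperty.Over.isoMk
      { hom := pullback.fst A.hom (𝟙 X)
        inv := pullback.lift (𝟙 _) A.hom (by simp)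
        hom_inv_id := by
          apply pullback.hom_ext
          · exact (Category.assoc _ _ _).trans (((pullback.fst A.hom (𝟙 X)) ≫= pullback.lift_fst _ _ _).trans
              ((Category.comp_id _).trans (Category.id_comp _).symm))
          · exact (Category.assoc _ _ _).trans (((pullback.fst A.hom (𝟙 X)) ≫= pullback.lift_snd _ _ _).trans
              ((pullback.condition.trans (Category.comp_id _)).trans (Category.id_comp _).symm))
        inv_hom_id := pullback.lift_fst _ _ _ }
      ((pullback.condition (f := A.hom) (g := 𝟙 X)).trans (Category.comp_id _)))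
    (fun {A B} m => by ext; exact pullback.lift_fst _ _ _)

/-- The equivalence. -/

theorem purityHolds_of_ringEquiv {R R' : Type u} [CommRing R] [IsLocalRing R] [CommRing R']
    [IsLocalRing R'] (e : R ≃+* R') (h : FEt.PurityHolds R) : FEt.PurityHolds R' := by
  let ψ : Spec (CommRingCat.of R') ⟶ Spec (CommRingCat.of R) := Spec.map e.toCommRingCatIso.hom
  have : IsIso ψ := inferInstance
  have hcl : ψ.base (closedPoint R') = closedPoint R :=
    PrimeSpectrum.ext (IsLocalRing.maximalIdeal_comap (e : R →+* R'))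
  have hr : Set.range ((FEt.puncturedSpec R').ι ≫ ψ).base = Set.range (FEt.puncturedSpec R).ι.base := by
    rw [Scheme.Hom.comp_base, TopCat.coe_comp, Set.range_comp, Scheme.Opens.range_ι, Scheme.Opens.range_ι]
    refine (Set.image_compl_eq (f := ψ.base) (s := {(closedPoint R' : Spec (CommRingCat.of R'))})
      ψ.homeomorph.bijective).trans (congrArg compl ?_)
    exact Set.image_singleton.trans (congrArg (fun z => ({z} : Set (Spec (CommRingCat.of R)))) hcl)
  let k := IsOpenImmersion.isoOfRangeEq ((FEt.puncturedSpec R').ι ≫ ψ) (FEt.puncturedSpec R).ι hr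
  have hk : k.hom ≫ (FEt.puncturedSpec R).ι = (FEt.puncturedSpec R').ι ≫ ψ :=
    IsOpenImmersion.isoOfRangeEq_hom_fac _ _ _
  exact es_of_comp_right _ ψ (hk ▸ (H80.UnivHomeo.ES.of_isIso k.hom).comp h)

variable {A : Type u} [CommRing A] [IsNoetherianRing A] [IsLocalRing A] {f : A}
  [IsAdicComplete (Ideal.span {f}) A]

theorem essSurj_punctured (hf : f ∈ maximalIdeal A) (hnz : f ∈ nonZeroDivisors A)
    (h1 : Module.Finite A (LocCoh.H (maximalIdeal A) 1 (A ⧸ Ideal.span {f})))
    (h2 : Module.Finite A (LocCoh.H (maximalIdeal A) 2 (A ⧸ Ideal.span {f})))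
    (hp : ∀ P : Ideal (Localization.Away f), ∀ _ : P.IsMaximal,
      FEt.PurityHolds (Localization.AtPrime P)) :
    (FEt.restrict (pullback.fst (FEt.puncturedSpec A).ι (qI (Ideal.span {f})))).EssSurj := by
  refine ⟨fun V₀ => ?_⟩
  obtain ⟨U', hU', u', hu', V', ⟨e⟩⟩ := exists_extension hnz (Ideal.span {f}) rfl h1 h2 V₀
  let U := FEt.puncturedSpec A
  haveI : IsNoetherian (U : Scheme.{u}) := {
    toIsLocallyNoetherian := inferInstance
    toCompactSpace := isCompact_iff_compactSpace.mp
      (TopologicalSpace.NoetherianSpace.isCompact (α := PrimeSpectrum A) _) }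
  let T : (U : Scheme.{u}).Opens := U.ι ⁻¹ᵁ U'
  let k : (T : Scheme.{u}) ≅ (U' : Scheme.{u}) := IsOpenImmersion.isoOfRangeEq (T.ι ≫ U.ι) U'.ι (by
    rw [Scheme.Hom.comp_base, TopCat.coe_comp, Set.range_comp, Scheme.Opens.range_ι, Scheme.Opens.range_ι]
    ext x
    exact ⟨fun ⟨y, hy, hyx⟩ => hyx ▸ hy, fun hx => ⟨⟨x, hU' hx⟩, hx, rfl⟩⟩)
  have hk : k.hom ≫ U'.ι = T.ι ≫ U.ι := IsOpenImmersion.isoOfRangeEq_hom_fac _ _ _
  haveI := Groth.Agent.S0250.result (X := (U : Scheme.{u})) T (fun x hxT => by
    let p : PrimeSpectrum A := U.ι.base x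
    have hfp : f ∉ p.asIdeal := fun hfp => hxT (by
      obtain ⟨t, ht⟩ : x ∈ Set.range (pullback.fst U.ι (qI (Ideal.span {f}))).base := by
        rw [Scheme.Pullback.range_fst]
        show (p : PrimeSpectrum A) ∈ Set.range (PrimeSpectrum.comap (Ideal.Quotient.mk (Ideal.span {f})))
        rw [range_comap_of_surjective _ _ Ideal.Quotient.mk_surjective, Ideal.mk_ker]
        exact (Ideal.span_singleton_le_iff_mem _).2 hfp
      show U.ι.base x ∈ U'
      rw [← ht, ← Scheme.Hom.comp_apply, ← hu', Scheme.Hom.comp_apply]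
      exact (u'.base t).2)
    let P : Ideal (Localization.Away f) := p.asIdeal.map (algebraMap A (Localization.Away f))
    have hdisj : Disjoint (Submonoid.powers f : Set A) (p.asIdeal : Set A) := by
      rw [Set.disjoint_left]
      rintro _ ⟨k, rfl⟩ hk
      exact hfp (p.2.mem_of_pow_mem k hk)
    haveI : P.IsPrime := IsLocalization.isPrime_of_isPrime_disjoint (Submonoid.powers f) _ _ p.2 hdisj
    have hcomap : P.comap (algebraMap A (Localization.Away f)) = p.asIdeal :=
      IsLocalization.under_map_of_isPrime_disjoint (Submonoid.powers f) _ p.2 hdisj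
    haveI : P.IsMaximal := by
      obtain ⟨Q, hQ, hle⟩ := Ideal.exists_le_maximal P (Ideal.IsPrime.ne_top inferInstance)
      haveI := hQ.isPrime
      by_contra hPm
      have hne : P ≠ Q := fun h => hPm (h ▸ hQ)
      let q : PrimeSpectrum A := ⟨Q.comap (algebraMap A (Localization.Away f)), inferInstance⟩
      have hpq : p.asIdeal < q.asIdeal := by
        refine lt_of_le_of_ne (hcomap ▸ Ideal.comap_mono hle) fun h => hne ?_
        exact (congrArg (Ideal.map (algebraMap A (Localization.Away f))) h).trans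
          (IsLocalization.map_under (Submonoid.powers f) _ Q)
      have hqU : (q : Spec (CommRingCat.of A)) ∈ U := fun hq => by
        have hfq : f ∉ q.asIdeal := fun hfq => hQ.ne_top (Ideal.eq_top_of_isUnit_mem _ hfq
          (IsLocalization.Away.algebraMap_isUnit f))
        exact hfq ((congrArg PrimeSpectrum.asIdeal (show q = closedPoint A from hq)).symm ▸ hf)
      have hsp : (p : Spec (CommRingCat.of A)) ⤳ q := (PrimeSpectrum.le_iff_specializes p q).mp hpq.le
      -- a prime between `q` and a point of `V(f)` in the punctured spectrum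
      haveI : IsLocalRing (A ⧸ p.asIdeal) := .of_surjective' _ Ideal.Quotient.mk_surjective
      haveI : IsLocalHom (Ideal.Quotient.mk p.asIdeal) := IsLocalHom.of_surjective _ Ideal.Quotient.mk_surjective
      obtain ⟨r₀, hr₀⟩ := Ideal.nonempty_minimalPrimes (I := Ideal.span {Ideal.Quotient.mk p.asIdeal f})
        (fun h => by
          rw [Ideal.span_singleton_eq_top] at h
          have h2 := h.map (residue (A ⧸ p.asIdeal))
          rw [show residue (A ⧸ p.asIdeal) (Ideal.Quotient.mk p.asIdeal f) = 0 from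
            (residue_eq_zero_iff _).2 (fun hu => hf (isUnit_of_map_unit (Ideal.Quotient.mk p.asIdeal) f hu))] at h2
          exact not_isUnit_zero h2)
      haveI := hr₀.1.1
      have hr1 := Ideal.height_le_one_of_isPrincipal_of_mem_minimalPrimes
        (Ideal.span {Ideal.Quotient.mk p.asIdeal f}) r₀ hr₀
      let r : PrimeSpectrum A := ⟨r₀.comap (Ideal.Quotient.mk p.asIdeal), inferInstance⟩
      have hrf : f ∈ r.asIdeal := hr₀.1.2 (Ideal.mem_span_singleton_self _)
      have hrp : p.asIdeal ≤ r.asIdeal := Ideal.mk_ker.symm.trans_le (Ideal.ker_le_comap _)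
      have hrm : r₀ ≠ maximalIdeal (A ⧸ p.asIdeal) := fun h => by
        let q' : Ideal (A ⧸ p.asIdeal) := q.asIdeal.map (Ideal.Quotient.mk p.asIdeal)
        haveI : q'.IsPrime := Ideal.map_isPrime_of_surjective Ideal.Quotient.mk_surjective
          (by rw [Ideal.mk_ker]; exact hpq.le)
        have hq'0 : (⊥ : Ideal (A ⧸ p.asIdeal)) < q' := bot_lt_iff_ne_bot.2 fun hb => hpq.not_ge (by
          rw [Ideal.map_eq_bot_iff_le_ker, Ideal.mk_ker] at hb
          exact hb)
        have hq'm : q' < r₀ := by
          rw [h]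
          refine lt_of_le_of_ne (IsLocalRing.le_maximalIdeal (Ideal.IsPrime.ne_top inferInstance)) fun he => hqU ?_
          refine PrimeSpectrum.ext ((IsLocalRing.le_maximalIdeal q.2.ne_top).antisymm ?_)
          rw [← (Ideal.comap_map_of_surjective' (Ideal.Quotient.mk p.asIdeal) Ideal.Quotient.mk_surjective q.asIdeal).trans
            (sup_eq_left.2 (by rw [Ideal.mk_ker]; exact hpq.le))]
          intro z hz
          show Ideal.Quotient.mk p.asIdeal z ∈ q'
          rw [he]
          exact fun hu => hz (isUnit_of_map_unit (Ideal.Quotient.mk p.asIdeal) z hu)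
        have h2 : (⊥ : Ideal (A ⧸ p.asIdeal)).height < q'.height := Ideal.height_strict_mono_of_isPrime hq'0
        have h3 : q'.height < r₀.height := Ideal.height_strict_mono_of_isPrime hq'm
        have h4 : (1 : ℕ∞) ≤ q'.height := Order.one_le_iff_pos.2 (lt_of_le_of_lt bot_le h2)
        exact absurd (h4.trans_lt h3) (not_lt.2 hr1)
      have hrU : (r : Spec (CommRingCat.of A)) ∈ U := fun hr => hrm (by
        refine IsLocalRing.eq_maximalIdeal ?_
        rw [← Ideal.map_comap_of_surjective (Ideal.Quotient.mk p.asIdeal) Ideal.Quotient.mk_surjective r₀]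
        have hr' : r₀.comap (Ideal.Quotient.mk p.asIdeal) = maximalIdeal A :=
          congrArg PrimeSpectrum.asIdeal hr
        exact (Ideal.map_eq_top_or_isMaximal_of_surjective _ Ideal.Quotient.mk_surjective
          (hr' ▸ IsLocalRing.maximalIdeal.isMaximal A)).resolve_left (by
            rw [Ideal.map_comap_of_surjective _ Ideal.Quotient.mk_surjective]; exact hr₀.1.1.ne_top))
      -- `r` is in `U'`, hence so is `p`
      obtain ⟨t, ht⟩ : (⟨r, hrU⟩ : U) ∈ Set.range (pullback.fst U.ι (qI (Ideal.span {f}))).base := by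
        rw [Scheme.Pullback.range_fst]
        show (r : PrimeSpectrum A) ∈ Set.range (PrimeSpectrum.comap (Ideal.Quotient.mk (Ideal.span {f})))
        rw [range_comap_of_surjective _ _ Ideal.Quotient.mk_surjective, Ideal.mk_ker]
        exact (Ideal.span_singleton_le_iff_mem _).2 hrf
      have hrU' : (r : Spec (CommRingCat.of A)) ∈ U' := by
        rw [show (r : Spec (CommRingCat.of A)) = U.ι.base ((pullback.fst U.ι (qI (Ideal.span {f}))).base t) from
          (congrArg U.ι.base ht).symm, ← Scheme.Hom.comp_apply, ← hu', Scheme.Hom.comp_apply]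
        exact (u'.base t).2
      exact hxT (((PrimeSpectrum.le_iff_specializes p r).mp hrp).mem_open U'.2 hrU')
    let R := (Spec (CommRingCat.of A)).presheaf.stalk (U.ι.base x)
    letI : Algebra A R := StructureSheaf.stalkAlgebra A p
    haveI : IsLocalization.AtPrime R p.asIdeal := StructureSheaf.IsLocalization.to_stalk A p
    haveI : IsLocalization.AtPrime (Localization.AtPrime P) p.asIdeal := by
      have := IsLocalization.isLocalization_isLocalization_atPrime_isLocalization
        (Submonoid.powers f) (Localization.AtPrime P) P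
      simpa only [hcomap] using this
    let e : Localization.AtPrime P ≃+* ↑((U : Scheme.{u}).presheaf.stalk x) :=
      (IsLocalization.algEquiv p.asIdeal.primeCompl (Localization.AtPrime P) R).toRingEquiv.trans
        (asIso (U.ι.stalkMap x)).commRingCatIsoToRingEquiv
    exact purityHolds_of_ringEquiv e (hp P inferInstance))
  obtain ⟨V, ⟨eV⟩⟩ := this.mem_essImage ((FEt.restrict k.hom).obj V')
  have hfac : (u' ≫ k.inv) ≫ T.ι = pullback.fst U.ι (qI (Ideal.span {f})) := by
    rw [← cancel_mono U.ι, Category.assoc, Category.assoc, ← hk, Iso.inv_hom_id_assoc, hu']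
  refine ⟨V, ⟨eqToIso (by rw [hfac]) ≪≫ (restrictComp (u' ≫ k.inv) T.ι).app V ≪≫
    (FEt.restrict (u' ≫ k.inv)).mapIso eV ≪≫ ((restrictComp (u' ≫ k.inv) k.hom).app V').symm ≪≫
    eqToIso (by rw [Category.assoc, Iso.inv_hom_id, Category.comp_id]) ≪≫ e⟩⟩

theorem purityHolds_quotient (hf : f ∈ maximalIdeal A) (hnz : f ∈ nonZeroDivisors A)
    (h1 : Module.Finite A (LocCoh.H (maximalIdeal A) 1 (A ⧸ Ideal.span {f})))
    (h2 : Module.Finite A (LocCoh.H (maximalIdeal A) 2 (A ⧸ Ideal.span {f})))
    (hp : ∀ P : Ideal (Localization.Away f), ∀ _ : P.IsMaximal,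
      FEt.PurityHolds (Localization.AtPrime P))
    (hA : FEt.PurityHolds A) [IsLocalRing (A ⧸ Ideal.span {f})] :
    FEt.PurityHolds (A ⧸ Ideal.span {f}) := by
  let U := FEt.puncturedSpec A
  let U₀ := FEt.puncturedSpec (A ⧸ Ideal.span {f})
  let q := qI (Ideal.span {f})
  haveI : IsLocalHom (Ideal.Quotient.mk (Ideal.span {f})) := IsLocalHom.of_surjective _ Ideal.Quotient.mk_surjective
  haveI : IsLocalHom (CommRingCat.Hom.hom (CommRingCat.ofHom (Ideal.Quotient.mk (Ideal.span {f})))) :=
    IsLocalHom.of_surjective _ Ideal.Quotient.mk_surjective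
  have hmem : ∀ z : Spec (CommRingCat.of (A ⧸ Ideal.span {f})), z ∈ U₀ ↔ q.base z ∈ U := fun z => by
    refine not_congr ⟨fun h => ?_, fun h => ?_⟩
    · rw [show (z : PrimeSpectrum _) = closedPoint _ from h]
      exact PrimeSpectrum.ext (IsLocalRing.maximalIdeal_comap _)
    · refine q.isClosedEmbedding.injective (Eq.trans h ?_)
      exact (PrimeSpectrum.ext (IsLocalRing.maximalIdeal_comap (Ideal.Quotient.mk (Ideal.span {f})))).symm
  let k : PI (Ideal.span {f}) ≅ (U₀ : Scheme.{u}) := IsOpenImmersion.isoOfRangeEq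
    (pullback.snd U.ι q) U₀.ι (by
      rw [Scheme.Pullback.range_snd, Scheme.Opens.range_ι, Scheme.Opens.range_ι]
      ext z
      exact (hmem z).symm)
  have hk : k.hom ≫ U₀.ι = pullback.snd U.ι q := IsOpenImmersion.isoOfRangeEq_hom_fac _ _ _
  have h : ES (pullback.fst U.ι q ≫ U.ι) := H80.UnivHomeo.ES.comp (essSurj_punctured hf hnz h1 h2 hp) hA
  refine ⟨fun W => ?_⟩
  obtain ⟨Y, ⟨eY⟩⟩ := h.mem_essImage ((FEt.restrict k.hom).obj W)
  have := (H80.UnivHomeo.ES.of_isIso k.inv)
  refine ⟨(FEt.restrict q).obj Y, ⟨((restrictComp U₀.ι q).app Y).symm ≪≫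
    eqToIso (by rw [show U₀.ι ≫ q = k.inv ≫ pullback.fst U.ι q ≫ U.ι by
      rw [pullback.condition, ← hk, Category.assoc, Iso.inv_hom_id_assoc]]) ≪≫
    (restrictComp k.inv _).app Y ≪≫ (FEt.restrict k.inv).mapIso eY ≪≫
    ((restrictComp k.inv k.hom).app W).symm ≪≫ eqToIso (by rw [Iso.inv_hom_id]) ≪≫
    (restrictId (U₀ : Scheme.{u})).app W⟩⟩

end Groth.Agent.H99.FEtAlg
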