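import Groth.Agent.H99.FEtAlg.Finite
import Groth.Agent.H78.PrincipalAlg.Tower

/-!
# Algebraisation of saturated towers of algebras
-/

set_option autoImplicit false
set_option linter.unusedSectionVars false
set_option linter.style.haveILetI false
set_option backward.isDefEq.respectTransparency false

noncomputable section

universe u

open CategoryTheory Opposite Groth.Agent.Lib.LocalCoh

namespace Groth.Agent.H99.FEtAlg

variable {A : Type u} [CommRing A] [IsNoetherianRing A] {ι : Type} [Finite ι]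

lemma transform_subtype_bijective {a : ι → A} {P : Type u} [AddCommGroup P] [Module A P]
    (N : Submodule A P) (h : ∀ (x : P) i, ∃ l : ℕ, a i ^ l • x ∈ N) :
    Function.Bijective ((LocCoh.idealTransform (Ideal.span (Set.range a))).map
      (ModuleCat.ofHom N.subtype)).hom :=
  transform_map_bijective _ (ModuleCat.ofHom N.subtype) ((Submodule.ker_subtype N).le.trans bot_le)
    ((isPowerTorsion_quotient_iff _).2 fun x i => (h x i).imp fun _ hl => ⟨⟨_, hl⟩, rfl⟩)

/-- A tower of algebras, saturated for the charts `a`, which is, on the charts, the reduction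
modulo the powers of `f` of an algebra without `f`-torsion. -/
structure IsSys (a : ι → A) (f : A) (M : ℕ → Type u) [∀ n, CommRing (M n)] [∀ n, Algebra A (M n)]
    (tr : ∀ {n m : ℕ}, n ≤ m → (M m →ₐ[A] M n)) : Prop where
  tr_tr : ∀ {n m l : ℕ} (h : n ≤ m) (h' : m ≤ l) (x : M l), tr h (tr h' x) = tr (h.trans h') x
  tr_refl : ∀ (n : ℕ) (x : M n), tr (le_refl n) x = x
  sat : ∀ n, Sat a (M n)
  kill : ∀ n (x : M n), f ^ (n + 1) • x = 0
  coker : ∀ {n m : ℕ} (h : n ≤ m) (y : M n) i, ∃ (l : ℕ) (x : M m), tr h x = a i ^ l • y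
  ker : ∀ {n m : ℕ} (h : n ≤ m) (x : M m), tr h x = 0 →
    ∀ i, ∃ (l : ℕ) (z : M m), a i ^ l • x = f ^ (n + 1) • z
  reg : ∀ n (x : M (n + 1)), f • x = 0 → ∀ i, ∃ (l : ℕ) (z : M (n + 1)), a i ^ l • x = f ^ (n + 1) • z

namespace IsSys

variable {a : ι → A} {f : A} {M : ℕ → Type u} [∀ n, CommRing (M n)] [∀ n, Algebra A (M n)]
  {tr : ∀ {n m : ℕ}, n ≤ m → (M m →ₐ[A] M n)} (hs : IsSys a f M tr)

local notation "II" => Ideal.span (Set.range a)

/-- One step down. -/
abbrev rho (tr : ∀ {n m : ℕ}, n ≤ m → (M m →ₐ[A] M n)) (n : ℕ) : M (n + 1) →ₗ[A] M n :=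
  (tr (Nat.le_succ n)).toLinearMap

include hs

lemma rho_cover (n : ℕ) (y : M n) (i : ι) : ∃ l : ℕ, a i ^ l • y ∈ LinearMap.range (rho tr n) := by
  obtain ⟨l, x, hx⟩ := hs.coker (Nat.le_succ n) y i
  exact ⟨l, x, hx⟩

lemma exists_up (n : ℕ) : ∃ u : M n →ₗ[A] M (n + 1), ∀ x, u (rho tr n x) = f • x := by
  have hk : LinearMap.ker (rho tr n) ≤ LinearMap.ker (f • (LinearMap.id : M (n + 1) →ₗ[A] M (n + 1))) :=
    fun x hx => LinearMap.mem_ker.2 ((hs.sat (n + 1)).sep _ fun i => by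
      obtain ⟨l, z, hz⟩ := hs.ker (Nat.le_succ n) x hx i
      refine ⟨l, ?_⟩
      show a i ^ l • f • x = 0
      rw [smul_comm, hz, smul_smul, ← pow_succ', hs.kill])
  obtain ⟨u, hu⟩ := (hs.sat (n + 1)).exists_extend ((LinearMap.ker (rho tr n)).liftQ (rho tr n) le_rfl)
    (fun x hx i => ⟨0, by
      rw [(injective_iff_map_eq_zero _).1 (LinearMap.ker_eq_bot.1 (Submodule.ker_liftQ_eq_bot _ _ _ le_rfl)) x hx,
        smul_zero]⟩)
    (fun y i => by rw [Submodule.range_liftQ]; exact hs.rho_cover n y i)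
    ((LinearMap.ker (rho tr n)).liftQ _ hk)
  exact ⟨u, fun x => hu (Submodule.Quotient.mk x)⟩

/-- Multiplication by `f` one level up. -/
def up (n : ℕ) : M n →ₗ[A] M (n + 1) := (hs.exists_up n).choose

lemma up_tr (n : ℕ) (x : M (n + 1)) : hs.up n (rho tr n x) = f • x := (hs.exists_up n).choose_spec x

lemma up_injective (n : ℕ) : Function.Injective (hs.up n) := by
  rw [injective_iff_map_eq_zero]
  refine fun x hx => (hs.sat n).sep x fun i => ?_
  obtain ⟨l, z, hz⟩ := hs.rho_cover n x i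
  have h0 : f • z = 0 := by rw [← hs.up_tr, hz, map_smul, hx, smul_zero]
  obtain ⟨l', w, hw⟩ := hs.reg n z h0 i
  refine ⟨l' + l, ?_⟩
  rw [pow_add, mul_smul, ← hz, ← map_smul, hw, map_smul, hs.kill]

lemma tr_up (n : ℕ) (x : M (n + 1)) :
    rho tr (n + 1) (hs.up (n + 1) x) = hs.up n (rho tr n x) := by
  refine LinearMap.congr_fun ((hs.sat (n + 1)).ext_on (LinearMap.range (rho tr (n + 1)))
    (hs.rho_cover (n + 1)) (f := rho tr (n + 1) ∘ₗ hs.up (n + 1)) (g := hs.up n ∘ₗ rho tr n) ?_) x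
  rintro _ ⟨z, rfl⟩
  rw [LinearMap.comp_apply, LinearMap.comp_apply, hs.up_tr, hs.up_tr, map_smul]

lemma tr_up_bottom (n : ℕ) (x : M n) : tr (Nat.zero_le (n + 1)) (hs.up n x) = 0 := by
  refine LinearMap.congr_fun ((hs.sat 0).ext_on (LinearMap.range (rho tr n)) (hs.rho_cover n)
    (f := (tr (Nat.zero_le (n + 1))).toLinearMap ∘ₗ hs.up n) (g := 0) ?_) x
  rintro _ ⟨z, rfl⟩
  rw [LinearMap.comp_apply, hs.up_tr, AlgHom.toLinearMap_apply, map_smul, LinearMap.zero_apply]
  simpa using hs.kill 0 (tr (Nat.zero_le (n + 1)) z)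

lemma bottom (n : ℕ) (x : M (n + 1)) (hx : tr (Nat.zero_le (n + 1)) x = 0) :
    ∃ y, hs.up n y = x := by
  refine (hs.sat (n + 1)).mem_range (hs.sat n) (hs.up n) (hs.up_injective n) x fun i => ?_
  obtain ⟨l, z, hz⟩ := hs.ker (Nat.zero_le (n + 1)) x hx i
  exact ⟨l, rho tr n z, by rw [hs.up_tr, hz, zero_add, pow_one]⟩

/-- Out of the bottom. -/
def upn : ∀ n : ℕ, M 0 →ₗ[A] M (n + 1)
  | 0 => hs.up 0
  | n + 1 => hs.up (n + 1) ∘ₗ upn n

lemma upn_injective : ∀ n, Function.Injective (hs.upn n)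
  | 0 => hs.up_injective 0
  | n + 1 => (hs.up_injective (n + 1)).comp (upn_injective n)

lemma rho_upn : ∀ n x, rho tr n (hs.upn n x) = 0
  | 0, x => hs.tr_up_bottom 0 x
  | n + 1, x => by
    rw [upn, LinearMap.comp_apply, hs.tr_up, rho_upn n x, map_zero]

lemma exists_upn : ∀ n y, rho tr n y = 0 → ∃ x, hs.upn n x = y
  | 0, y, hy => hs.bottom 0 y hy
  | n + 1, y, hy => by
    have h0 : tr (Nat.zero_le (n + 1 + 1)) y = 0 := by
      rw [← hs.tr_tr (Nat.zero_le (n + 1)) (Nat.le_succ (n + 1)) y]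
      exact (congrArg _ hy).trans (map_zero _)
    obtain ⟨w, hw⟩ := hs.bottom (n + 1) y h0
    have hw' : rho tr n w = 0 := hs.up_injective n (by rw [← hs.tr_up, hw, hy, map_zero])
    obtain ⟨x, hx⟩ := exists_upn n w hw'
    exact ⟨x, by rw [upn, LinearMap.comp_apply, hx, hw]⟩

lemma exact_upn (n : ℕ) : Function.Exact (hs.upn n) (rho tr n).rangeRestrict := fun y =>
  ⟨fun h => hs.exists_upn n y (congrArg Subtype.val h),
    fun ⟨x, hx⟩ => Subtype.ext (by rw [← hx]; exact hs.rho_upn n x)⟩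

/-- The step sequence. -/
abbrev seq (n : ℕ) : ShortComplex (ModuleCat.{u} A) :=
  Lib.LCFin.Seq.ses (hs.upn n) (rho tr n).rangeRestrict (hs.exact_upn n)

lemma seq_shortExact (n : ℕ) : (hs.seq n).ShortExact :=
  Lib.LCFin.Seq.ses_shortExact (hs.upn_injective n) (rho tr n).surjective_rangeRestrict
    (hs.exact_upn n)

/-- The image of a step in the ideal transform. -/
def dEquiv (n : ℕ) : (LocCoh.idealTransform II).obj (ModuleCat.of A (LinearMap.range (rho tr n))) ≃ₗ[A]
    (LocCoh.idealTransform II).obj (ModuleCat.of A (M n)) :=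
  LinearEquiv.ofBijective _ (transform_subtype_bijective (LinearMap.range (rho tr n)) (hs.rho_cover n))

/-- The obstructions. -/
def obs (n : ℕ) : M n →ₗ[A] (colimExt (powSys II) 1).obj (ModuleCat.of A (M 0)) :=
  ((transformDeltaSeq II).δ (hs.seq_shortExact n) 0).hom ∘ₗ
    (hs.dEquiv n).symm.toLinearMap ∘ₗ LocCoh.toDT II (ModuleCat.of A (M n))

lemma lift (n : ℕ) (x : M n) (hx : hs.obs n x = 0) : ∃ y, tr (Nat.le_succ n) y = x := by
  obtain ⟨v, hv⟩ := ((transformDeltaSeq II).exact₃ (hs.seq_shortExact n) 0 _).1 hx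
  obtain ⟨z, rfl⟩ := (hs.sat (n + 1)).toDT_bijective.2 v
  refine ⟨z, (hs.sat n).toDT_bijective.1 ?_⟩
  have h1 := (congrArg (hs.dEquiv n) hv).trans ((hs.dEquiv n).apply_symm_apply _)
  refine Eq.trans ?_ h1
  refine Eq.symm ((congrArg (hs.dEquiv n) (toDT_naturality II (hs.seq n).g z)).trans ?_)
  exact toDT_naturality II (ModuleCat.ofHom (LinearMap.range (rho tr n)).subtype) _

/-- Multiplication by `f` on the step sequences. -/
def seqMap (n : ℕ) : hs.seq n ⟶ hs.seq (n + 1) where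
  τ₁ := 𝟙 _
  τ₂ := ModuleCat.ofHom (hs.up (n + 1))
  τ₃ := ModuleCat.ofHom ((hs.up n).restrict (p := LinearMap.range (rho tr n))
    (q := LinearMap.range (rho tr (n + 1))) fun _ ⟨z, hz⟩ => ⟨hs.up (n + 1) z, by
      rw [hs.tr_up, hz]⟩)
  comm₁₂ := rfl
  comm₂₃ := ModuleCat.hom_ext (LinearMap.ext fun z => Subtype.ext (hs.tr_up n z))

lemma obs_up (n : ℕ) (x : M n) : hs.obs (n + 1) (hs.up n x) = hs.obs n x := by
  let v := (hs.dEquiv n).symm (LocCoh.toDT II (ModuleCat.of A (M n)) x)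
  have h : (hs.dEquiv (n + 1)).symm (LocCoh.toDT II (ModuleCat.of A (M (n + 1))) (hs.up n x)) =
      ((LocCoh.idealTransform II).map (hs.seqMap n).τ₃).hom v := by
    rw [LinearEquiv.symm_apply_eq]
    have e : (hs.seqMap n).τ₃ ≫ ModuleCat.ofHom (LinearMap.range (rho tr (n + 1))).subtype =
        ModuleCat.ofHom (LinearMap.range (rho tr n)).subtype ≫ ModuleCat.ofHom (hs.up n) := rfl
    have h2 := congrArg (fun φ => ((LocCoh.idealTransform II).map φ).hom v) e
    simp only [Functor.map_comp] at h2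
    refine Eq.trans ?_ h2.symm
    refine Eq.trans ?_ (congrArg ((LocCoh.idealTransform II).map (ModuleCat.ofHom (hs.up n))).hom
      ((hs.dEquiv n).apply_symm_apply _).symm)
    exact (toDT_naturality II (ModuleCat.ofHom (hs.up n)) x).symm
  have hn := congrArg (fun φ => φ.hom v)
    ((transformDeltaSeq II).naturality (hs.seq_shortExact n) (hs.seq_shortExact (n + 1)) (hs.seqMap n) 0)
  refine (congrArg ((transformDeltaSeq II).δ (hs.seq_shortExact (n + 1)) 0).hom h).trans (hn.trans ?_)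
  have hid : (colimExt (powSys II) 1).map (hs.seqMap n).τ₁ = 𝟙 _ :=
    CategoryTheory.Functor.map_id _ _
  exact congrArg (fun φ => φ.hom (((transformDeltaSeq II).δ (hs.seq_shortExact n) 0).hom v)) hid

/-- The tower. -/
def tower : H78.PrincipalAlg.Tower A f M ((colimExt (powSys II) 1).obj (ModuleCat.of A (M 0))) where
  tr h := (tr h).toLinearMap
  tr_tr := hs.tr_tr
  tr_refl := hs.tr_refl
  up := hs.up
  up_injective := hs.up_injective
  up_tr := hs.up_tr
  tr_up := hs.tr_up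
  tr_up_bottom := hs.tr_up_bottom
  bottom := hs.bottom
  kill := hs.kill
  obs := hs.obs
  obs_up := hs.obs_up
  lift := hs.lift

/-- The compatible families form an algebra. -/
def limAlg (tr : ∀ {n m : ℕ}, n ≤ m → (M m →ₐ[A] M n)) : Subalgebra A (∀ n, M n) where
  carrier := {x | ∀ n, tr (Nat.le_succ n) (x (n + 1)) = x n}
  mul_mem' := fun {x y} hx hy n => (map_mul _ (x (n + 1)) (y (n + 1))).trans (congrArg₂ (· * ·) (hx n) (hy n))
  one_mem' := fun _ => map_one _
  add_mem' := fun {x y} hx hy n => (map_add _ (x (n + 1)) (y (n + 1))).trans (congrArg₂ (· + ·) (hx n) (hy n))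
  zero_mem' := fun _ => map_zero _
  algebraMap_mem' := fun r n => AlgHom.commutes _ r

theorem exists_algebraization [IsAdicComplete (Ideal.span {f}) A] {B₀ : Type u} [AddCommGroup B₀]
    [Module A B₀] [Module.Finite A B₀]
    (h1 : Module.Finite A (LocCoh.H II 1 B₀)) (h2 : Module.Finite A (LocCoh.H II 2 B₀))
    (hloc : LocallyRetract (M 0) a B₀) :
    ∃ (B : Type u) (_ : CommRing B) (_ : Algebra A B), Module.Finite A B ∧
      (∀ x : B, f • x = 0 → x = 0) ∧ ∃ g : B →ₐ[A] M 0, (∀ x, g x = 0 ↔ ∃ y, x = f • y) ∧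
        ∀ (y : M 0) i, ∃ (l : ℕ) (x : B), g x = a i ^ l • y := by
  obtain ⟨hM0, hH2⟩ := finite_of_locallyRetract (hs.sat 0) h1 h2 hloc
  let e := (((connIso II 0).app (ModuleCat.of A (M 0))).toLinearEquiv).trans
    ((lcIso II 2).app (ModuleCat.of A (M 0))).symm.toLinearEquiv
  haveI : Module.Finite A ((colimExt (powSys II) 1).obj (ModuleCat.of A (M 0))) :=
    haveI : Module.Finite A ((localCohomology II 2).obj (ModuleCat.of A (M 0))) := hH2
    Module.Finite.equiv e.symm
  let T := hs.tower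
  have : Module.Finite A T.lim := T.finite_lim
  let B := limAlg tr
  let eB : T.lim ≃ₗ[A] B :=
    { toFun := fun x => ⟨x.1, x.2⟩
      map_add' := fun _ _ => rfl
      map_smul' := fun _ _ => rfl
      invFun := fun x => ⟨x.1, x.2⟩
      left_inv := fun _ => rfl
      right_inv := fun _ => rfl }
  refine ⟨B, inferInstance, inferInstance, Module.Finite.equiv eB, fun x hx => ?_,
    (Pi.evalAlgHom A M 0).comp B.val, fun x => ?_, fun y i => ?_⟩
  · refine Subtype.ext (funext fun n => hs.up_injective n ?_)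
    have hx' : f • x.1 (n + 1) = 0 := congrFun (congrArg Subtype.val hx) (n + 1)
    rw [show x.1 n = rho tr n (x.1 (n + 1)) from (x.2 n).symm, hs.up_tr, hx']
    exact (map_zero _).symm
  · refine (T.proj_eq_zero_iff 0 (eB.symm x)).trans ?_
    simp only [zero_add, pow_one]
    constructor
    · rintro ⟨y, hy⟩
      exact ⟨eB y, by rw [← map_smul, ← hy, LinearEquiv.apply_symm_apply]⟩
    · rintro ⟨y, rfl⟩
      exact ⟨eB.symm y, map_smul _ _ _⟩
  · obtain ⟨c, hc⟩ := T.exists_range_le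
    obtain ⟨l, z, hz⟩ := hs.coker (show 0 ≤ 0 + c + 1 by omega) y i
    obtain ⟨w, hw⟩ := hc 0 ⟨z, hz⟩
    exact ⟨l, eB w, hw⟩

end IsSys

end Groth.Agent.H99.FEtAlg
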