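import Groth.Agent.H80.Clopen.Scheme
import Groth.Agent.H80.Clopen.Principal
import Groth.Agent.H99.FEtAlg.Tower
import Mathlib.AlgebraicGeometry.Morphisms.ClosedImmersion

/-!
# Sections of covers of the thickenings on the charts
-/

set_option autoImplicit false
set_option linter.unusedSectionVars false
set_option linter.style.haveILetI false
set_option backward.isDefEq.respectTransparency false

noncomputable section

universe u

open CategoryTheory CategoryTheory.Limits AlgebraicGeometry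
open Groth.Agent.H80.Clopen (str basicOpen_str res res_res)

namespace Groth.Agent.H99.FEtAlg

variable {A : Type u} [CommRing A]

lemma str_comp {A' : Type u} [CommRing A'] {W : Scheme.{u}} (v : W ⟶ Spec (CommRingCat.of A'))
    (φ : A →+* A') : str (v ≫ Spec.map (CommRingCat.ofHom φ)) = (str v).comp φ := by
  have h := Scheme.ΓSpecIso_inv_naturality (CommRingCat.ofHom φ)
  rw [str, str, Scheme.Hom.comp_appTop, ← Category.assoc, ← h, Category.assoc, CommRingCat.hom_comp]
  rfl

lemma appTop_str {W W' : Scheme.{u}} (j : W' ⟶ W) (w : W ⟶ Spec (CommRingCat.of A)) :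
    j.appTop.hom.comp (str w) = str (j ≫ w) := by
  rw [str, str, Scheme.Hom.comp_appTop, ← CommRingCat.hom_comp, Category.assoc]

/-- Data of a finite cover of an open of the punctured spectrum. -/
structure Chart {ι : Type} (a : ι → A) {W : Scheme.{u}} (w : W ⟶ Spec (CommRingCat.of A)) : Prop where
  compact : CompactSpace W
  qsep : QuasiSeparatedSpace W
  affine : ∀ i, IsAffineOpen (W.basicOpen (str w (a i)))
  cover : ⨆ i, W.basicOpen (str w (a i)) = ⊤

variable {ι : Type} {a : ι → A} {W : Scheme.{u}} {w : W ⟶ Spec (CommRingCat.of A)}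

/-- Restriction to a chart. -/
abbrev chartRes (w : W ⟶ Spec (CommRingCat.of A)) (b : A) :
    Γ(W, ⊤) →+* Γ(W, W.basicOpen (str w b)) :=
  res W le_top

lemma isUnit_chartRes (w : W ⟶ Spec (CommRingCat.of A)) (b : A) :
    IsUnit (chartRes w b (str w b)) :=
  W.toRingedSpace.isUnit_res_basicOpen _

namespace Chart

variable (hc : Chart a w)
include hc

lemma exists_chart (i : ι) (c : Γ(W, W.basicOpen (str w (a i)))) :
    ∃ (l : ℕ) (x : Γ(W, ⊤)), chartRes w (a i) x = chartRes w (a i) (str w (a i)) ^ l * c := by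
  have := hc.compact
  have := hc.qsep
  let : Algebra Γ(W, ⊤) Γ(W, W.basicOpen (str w (a i))) := (chartRes w (a i)).toAlgebra
  have : IsLocalization.Away (str w (a i)) Γ(W, W.basicOpen (str w (a i))) :=
    isLocalization_basicOpen_of_qcqs (X := W) (U := ⊤) isCompact_univ isQuasiSeparated_univ _
  obtain ⟨⟨x, _, l, rfl⟩, hx⟩ := IsLocalization.surj (Submonoid.powers (str w (a i))) c
  refine ⟨l, x, ?_⟩
  rw [← map_pow, mul_comm]
  exact hx.symm

lemma eq_zero_chart (i : ι) (x : Γ(W, ⊤)) (hx : chartRes w (a i) x = 0) :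
    ∃ l : ℕ, str w (a i) ^ l * x = 0 :=
  haveI := hc.compact
  haveI := hc.qsep
  H80.Clopen.exists_pow_mul_eq_zero W (str w (a i)) x hx

theorem sat [Finite ι] : letI := (str w).toAlgebra; Sat a Γ(W, ⊤) := by
  letI := (str w).toAlgebra
  have := hc.compact
  have := hc.qsep
  have hs := H80.Clopen.sep_sections a W hc.cover
  have hg := H80.Clopen.glue_sections a W hc.cover
  refine ⟨fun x hx => ?_, fun k m hm => ?_⟩
  · simpa using hs x fun i => (hx i).imp fun l hl => by simp [hl]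
  · obtain ⟨x, hx⟩ := hg k m fun i j => ⟨0, by simp [hm i j]⟩
    exact ⟨x, fun i => (hx i).imp fun l hl => by simpa using hl⟩

lemma kill_of_eq {A' : Type u} [CommRing A'] {φ : A →+* A'} {v : W ⟶ Spec (CommRingCat.of A')}
    (hw : w = v ≫ Spec.map (CommRingCat.ofHom φ)) {b : A} (hb : φ b = 0) : str w b = 0 := by
  rw [hw, str_comp, RingHom.comp_apply, hb, map_zero]

end Chart

/-- The sections on an affine chart are flat and finitely presented over the base of the chart. -/
lemma flat_chart {R : Type u} [CommRing R] (v : W ⟶ Spec (CommRingCat.of R)) [Flat v]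
    {D : W.Opens} (hD : IsAffineOpen D) :
    ((res W (le_top : D ≤ ⊤)).comp (str v)).Flat := by
  have h := HasRingHomProperty.appLE @Flat v inferInstance
    ⟨⊤, isAffineOpen_top (Spec (CommRingCat.of R))⟩ ⟨D, hD⟩ le_top
  have e : (res W (le_top : D ≤ ⊤)).comp (str v) =
      ((Scheme.ΓSpecIso (CommRingCat.of R)).inv ≫ v.appLE ⊤ D le_top).hom := rfl
  rw [e, CommRingCat.hom_comp]
  exact RingHom.Flat.comp (RingHom.Flat.of_bijective
    (ConcreteCategory.bijective_of_isIso (Scheme.ΓSpecIso (CommRingCat.of R)).inv)) h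

lemma etale_chart {R : Type u} [CommRing R] (v : W ⟶ Spec (CommRingCat.of R)) [Etale v]
    {D : W.Opens} (hD : IsAffineOpen D) :
    ((res W (le_top : D ≤ ⊤)).comp (str v)).Etale := by
  have h := HasRingHomProperty.appLE @Etale v inferInstance
    ⟨⊤, isAffineOpen_top (Spec (CommRingCat.of R))⟩ ⟨D, hD⟩ le_top
  have e : (res W (le_top : D ≤ ⊤)).comp (str v) =
      ((Scheme.ΓSpecIso (CommRingCat.of R)).inv ≫ v.appLE ⊤ D le_top).hom := rfl
  rw [e, CommRingCat.hom_comp]
  exact RingHom.Etale.stableUnderComposition _ _ (RingHom.Etale.of_bijective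
    (ConcreteCategory.bijective_of_isIso (Scheme.ΓSpecIso (CommRingCat.of R)).inv)) h

/-- What `f` kills on a chart of a cover of the `(n+1)`-st thickening is a multiple of `f^(n+1)`. -/
theorem chart_reg {f : A} (hf : f ∈ nonZeroDivisors A) {J : Ideal A} (n : ℕ)
    (hJ : J = Ideal.span {f ^ (n + 1 + 1)}) (v : W ⟶ Spec (CommRingCat.of (A ⧸ J))) [Flat v]
    (hw : w = v ≫ Spec.map (CommRingCat.ofHom (Ideal.Quotient.mk J)))
    (hc : Chart a w) (x : Γ(W, ⊤)) (hx : str w f * x = 0) (i : ι) :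
    ∃ (l : ℕ) (z : Γ(W, ⊤)), str w (a i) ^ l * x = str w (f ^ (n + 1)) * z := by
  let D := W.basicOpen (str w (a i))
  let : Algebra (A ⧸ J) Γ(W, D) := ((res W (le_top : D ≤ ⊤)).comp (str v)).toAlgebra
  have : Module.Flat (A ⧸ J) Γ(W, D) := flat_chart v (hc.affine i)
  have hbase : ∀ r : A, algebraMap (A ⧸ J) Γ(W, D) (Ideal.Quotient.mk J r) = res W le_top (str w r) :=
    fun r => by rw [hw, str_comp]; rfl
  have h0 : Ideal.Quotient.mk J f • res W (le_top : D ≤ ⊤) x = 0 := by
    rw [Algebra.smul_def, hbase, ← map_mul, hx, map_zero]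
  obtain ⟨k, r, y, hy, hr⟩ := Module.Flat.isTrivialRelation_of_sum_smul_eq_zero
    (R := A ⧸ J) (ι := Fin 1) (f := fun _ => Ideal.Quotient.mk J f)
    (x := fun _ => res W (le_top : D ≤ ⊤) x) (by simpa using h0)
  have hdiv : ∀ j, ∃ s : A, r 0 j = Ideal.Quotient.mk J (f ^ (n + 1) * s) := fun j => by
    obtain ⟨r', hr'⟩ := Ideal.Quotient.mk_surjective (r 0 j)
    have := hr j
    simp only [Fin.sum_univ_one, ← hr', ← map_mul, Ideal.Quotient.eq_zero_iff_mem, hJ,
      Ideal.mem_span_singleton'] at this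
    obtain ⟨s, hs⟩ := this
    refine ⟨s, ?_⟩
    rw [← hr']
    congr 1
    refine eq_of_sub_eq_zero (hf.1 _ ?_)
    linear_combination -hs
  choose s hs using hdiv
  let c : Γ(W, D) := ∑ j, Ideal.Quotient.mk J (s j) • y j
  have hc' : res W (le_top : D ≤ ⊤) x = res W le_top (str w (f ^ (n + 1))) * c := by
    rw [← hbase, ← Algebra.smul_def, Finset.smul_sum]
    refine (hy 0).trans ?_
    exact Finset.sum_congr rfl fun j _ => by rw [hs, map_mul, mul_smul]
  obtain ⟨l, z, hz⟩ := hc.exists_chart i c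
  obtain ⟨l', hl'⟩ := hc.eq_zero_chart i (str w (a i) ^ l * x - str w (f ^ (n + 1)) * z) (by
    rw [map_sub, map_mul, map_mul, hz, map_pow, sub_eq_zero]
    exact (congrArg _ hc').trans (by ring))
  refine ⟨l' + l, str w (a i) ^ l' * z, ?_⟩
  rw [mul_sub, sub_eq_zero] at hl'
  rw [pow_add, mul_assoc, hl']
  ring

variable {W' : Scheme.{u}}

/-- Sections on a chart of a thickening lift. -/
theorem chart_coker (j : W' ⟶ W) [IsClosedImmersion j] (hc : Chart a w) (hc' : Chart a (j ≫ w))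
    (y : Γ(W', ⊤)) (i : ι) :
    ∃ (l : ℕ) (x : Γ(W, ⊤)), j.appTop x = str (j ≫ w) (a i) ^ l * y := by
  let D := W.basicOpen (str w (a i))
  let D' := W'.basicOpen (str (j ≫ w) (a i))
  have hD : D' = j ⁻¹ᵁ D := by
    simp only [D, D', basicOpen_str]
    rfl
  obtain ⟨c, hc0⟩ := j.app_surjective D (hc.affine i) (res W' (le_top : j ⁻¹ᵁ D ≤ ⊤) y)
  obtain ⟨l, x, hx⟩ := hc.exists_chart i c
  have hnat : ∀ z : Γ(W, ⊤), res W' (le_top : j ⁻¹ᵁ D ≤ ⊤) (j.appTop z) = j.app D (res W le_top z) :=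
    fun z => (ConcreteCategory.congr_hom (j.naturality (homOfLE (le_top : D ≤ ⊤)).op) z).symm
  have h1 : res W' (le_top : j ⁻¹ᵁ D ≤ ⊤) (j.appTop x - str (j ≫ w) (a i) ^ l * y) = 0 := by
    rw [map_sub, hnat, hx, map_mul, map_pow, map_mul, map_pow, hc0, ← appTop_str]
    exact sub_eq_zero.2 (congrArg (fun t => t ^ l * _) (hnat (str w (a i))).symm)
  obtain ⟨l', hl'⟩ := hc'.eq_zero_chart i (j.appTop x - str (j ≫ w) (a i) ^ l * y) (by
    show res W' (le_top : D' ≤ ⊤) _ = 0
    rw [← res_res W' hD.le le_top, h1, map_zero])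
  refine ⟨l' + l, str w (a i) ^ l' * x, ?_⟩
  rw [mul_sub, sub_eq_zero] at hl'
  rw [map_mul, map_pow, pow_add, mul_assoc, ← hl', ← appTop_str]
  rfl

/-- Sections vanishing on the `n`-th thickening are, on the charts, multiples of `f^(n+1)`. -/
theorem chart_ker {f : A} (n : ℕ) {J J' : Ideal A} (hJ : J' = Ideal.span {f ^ (n + 1)}) (hle : J ≤ J')
    (j : W' ⟶ W) (v : W ⟶ Spec (CommRingCat.of (A ⧸ J))) (v' : W' ⟶ Spec (CommRingCat.of (A ⧸ J')))
    (hpb : IsPullback j v' v (Spec.map (CommRingCat.ofHom (Ideal.Quotient.factor hle))))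
    (hw : w = v ≫ Spec.map (CommRingCat.ofHom (Ideal.Quotient.mk J)))
    (hc : Chart a w) (x : Γ(W, ⊤)) (hx : j.appTop x = 0) (i : ι) :
    ∃ (l : ℕ) (z : Γ(W, ⊤)), str w (a i) ^ l * x = str w (f ^ (n + 1)) * z := by
  let D := W.basicOpen (str w (a i))
  let C := Γ(W, D)
  let F : C := res W (le_top : D ≤ ⊤) (str w (f ^ (n + 1)))
  let K : Ideal C := Ideal.span {F}
  let φ : Γ(W, ⊤) →+* C ⧸ K := (Ideal.Quotient.mk K).comp (res W le_top)
  let g : Spec (CommRingCat.of (C ⧸ K)) ⟶ W :=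
    Spec.map (CommRingCat.ofHom (Ideal.Quotient.mk K)) ≫ (hc.affine i).fromSpec
  have hg : g ≫ W.toSpecΓ = Spec.map (CommRingCat.ofHom φ) := by
    rw [Category.assoc, IsAffineOpen.fromSpec_toSpecΓ, ← Spec.map_comp]
    rfl
  have hφ : ∀ r ∈ J', (φ.comp (str w)) r = 0 := fun r hr => by
    rw [hJ, Ideal.mem_span_singleton'] at hr
    obtain ⟨s, rfl⟩ := hr
    rw [RingHom.comp_apply, RingHom.comp_apply, map_mul, map_mul, map_mul]
    exact mul_eq_zero_of_right _ (Ideal.Quotient.eq_zero_iff_mem.2 (Ideal.mem_span_singleton_self F))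
  let h : Spec (CommRingCat.of (C ⧸ K)) ⟶ Spec (CommRingCat.of (A ⧸ J')) :=
    Spec.map (CommRingCat.ofHom (Ideal.Quotient.lift J' (φ.comp (str w)) hφ))
  have hmono : IsClosedImmersion (Spec.map (CommRingCat.ofHom (Ideal.Quotient.mk J))) :=
    IsClosedImmersion.spec_of_surjective _ Ideal.Quotient.mk_surjective
  have hgw : g ≫ w = Spec.map (CommRingCat.ofHom (φ.comp (str w))) := by
    have hfac : w = W.toSpecΓ ≫ Spec.map (CommRingCat.ofHom (str w)) := by
      rw [str, CommRingCat.ofHom_hom, Spec.map_comp, ← Scheme.toSpecΓ_naturality_assoc,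
        toSpecΓ_SpecMap_ΓSpecIso_inv, Category.comp_id]
    conv_lhs => rw [hfac, ← Category.assoc, hg, ← Spec.map_comp]
    rfl
  have hcond : g ≫ v = h ≫ Spec.map (CommRingCat.ofHom (Ideal.Quotient.factor hle)) := by
    rw [← cancel_mono (Spec.map (CommRingCat.ofHom (Ideal.Quotient.mk J))), Category.assoc, ← hw, hgw]
    simp only [h, ← Spec.map_comp]
    rfl
  have hgx : g.appTop x = 0 := by
    rw [← hpb.lift_fst g h hcond, Scheme.Hom.comp_appTop, CommRingCat.comp_apply, hx, map_zero]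
  have hφx : φ x = 0 := by
    have h1 := congrArg (fun t => t.appTop) hg
    simp only [Scheme.Hom.comp_appTop, Scheme.toSpecΓ_appTop] at h1
    have h2 := ConcreteCategory.congr_hom h1 ((Scheme.ΓSpecIso Γ(W, ⊤)).inv x)
    rw [CommRingCat.comp_apply, Iso.inv_hom_id_apply, hgx] at h2
    have h3 := ConcreteCategory.congr_hom (Scheme.ΓSpecIso_inv_naturality (CommRingCat.ofHom φ)) x
    simp only [CommRingCat.comp_apply] at h3
    exact ((ConcreteCategory.bijective_of_isIso (Scheme.ΓSpecIso (CommRingCat.of (C ⧸ K))).inv).1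
      ((h3.trans h2.symm).trans (map_zero _).symm))
  obtain ⟨c, hc'⟩ := Ideal.mem_span_singleton'.1 (Ideal.Quotient.eq_zero_iff_mem.1 hφx)
  obtain ⟨l, z, hz⟩ := hc.exists_chart i c
  obtain ⟨l', hl'⟩ := hc.eq_zero_chart i (str w (a i) ^ l * x - str w (f ^ (n + 1)) * z) (by
    rw [map_sub, map_mul, map_mul, hz, map_pow, sub_eq_zero]
    exact (congrArg _ hc'.symm).trans (by simp only [F]; ring))
  refine ⟨l' + l, str w (a i) ^ l' * z, ?_⟩
  rw [mul_sub, sub_eq_zero] at hl'
  rw [pow_add, mul_assoc, hl']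
  ring

end Groth.Agent.H99.FEtAlg
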