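import Groth.Agent.Lib.LocalFlat.Criterion
import Groth.Agent.Lib.Unram.AtPrime
import Mathlib.RingTheory.Etale.Locus
import Mathlib.RingTheory.TensorProduct.Quotient
import Mathlib.RingTheory.Localization.Ideal

/-!
# Étale points of a finite algebra, detected modulo a nonzerodivisor
-/

set_option autoImplicit false

universe u

open IsLocalRing
open scoped TensorProduct

namespace Groth.Agent.H99.FEtAlg

/-- Multiplication by a regular element gives an injection of `span {f} ⊗ M`. -/
theorem lTensor_span_singleton_injective {A M : Type u} [CommRing A] [AddCommGroup M] [Module A M]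
    (f : A) (hM : ∀ m : M, f • m = 0 → m = 0) :
    Function.Injective ((Ideal.span {f}).subtype.lTensor M) := by
  have hsurj : ∀ y : M ⊗[A] (Ideal.span {f}), ∃ m : M,
      m ⊗ₜ[A] (⟨f, Ideal.mem_span_singleton_self f⟩ : ↥(Ideal.span {f})) = y := by
    intro y
    induction y using TensorProduct.induction_on with
    | zero => exact ⟨0, TensorProduct.zero_tmul _ _⟩
    | add a b ha hb =>
      obtain ⟨a, rfl⟩ := ha; obtain ⟨b, rfl⟩ := hb
      exact ⟨a + b, TensorProduct.add_tmul _ _ _⟩
    | tmul m z =>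
      obtain ⟨z, hz⟩ := z
      obtain ⟨a, rfl⟩ := Ideal.mem_span_singleton'.1 hz
      exact ⟨a • m, by rw [TensorProduct.smul_tmul]; rfl⟩
  rw [injective_iff_map_eq_zero]
  intro y hy
  obtain ⟨m, rfl⟩ := hsurj y
  have h0 : f • m = 0 := by simpa using congrArg (TensorProduct.rid A M) hy
  rw [hM m h0, TensorProduct.zero_tmul]

/-- Unramified is detected modulo an element of the base in the maximal ideal. -/
theorem formallyUnramified_of_quotient {A L : Type u} [CommRing A] [CommRing L] [IsLocalRing L]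
    [Algebra A L] [Algebra.EssFiniteType A L] (f : A) (hf : algebraMap A L f ∈ maximalIdeal L)
    (J : Ideal L) (hJ : J = Ideal.span {algebraMap A L f})
    [Algebra.FormallyUnramified A (L ⧸ J)] : Algebra.FormallyUnramified A L := by
  subst hJ
  have hsub : ∀ w : (L ⧸ Ideal.span {algebraMap A L f}) ⊗[L] Ω[L⁄A], w = 0 := fun w => by
    obtain ⟨y, rfl⟩ := ((KaehlerDifferential.exact_kerCotangentToTensor_mapBaseChange A L
      (L ⧸ Ideal.span {algebraMap A L f}) Ideal.Quotient.mk_surjective) w).mp (Subsingleton.elim _ _)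
    obtain ⟨⟨x, hx⟩, rfl⟩ := Ideal.toCotangent_surjective _ y
    rw [KaehlerDifferential.kerCotangentToTensor_toCotangent]
    obtain ⟨y, rfl⟩ := Ideal.mem_span_singleton'.1 (by
      have hx' := hx
      rw [RingHom.mem_ker, Ideal.Quotient.algebraMap_eq, Ideal.Quotient.eq_zero_iff_mem] at hx'
      exact hx')
    simp only [Derivation.leibniz, Derivation.map_algebraMap, smul_zero, zero_add]
    rw [TensorProduct.tmul_smul, TensorProduct.smul_tmul', Algebra.smul_def, mul_one,
      Ideal.Quotient.algebraMap_eq, Ideal.Quotient.eq_zero_iff_mem.2 (Ideal.mem_span_singleton_self _),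
      TensorProduct.zero_tmul]
  have htop : (⊤ : Submodule L Ω[L⁄A]) ≤ maximalIdeal L • ⊤ := fun ω _ => by
    have h1 : ω ∈ Ideal.span {algebraMap A L f} • (⊤ : Submodule L Ω[L⁄A]) := by
      rw [← Submodule.Quotient.mk_eq_zero, ← one_smul L (Submodule.Quotient.mk ω)]
      have := congrArg (TensorProduct.quotTensorEquivQuotSMul Ω[L⁄A] (Ideal.span {algebraMap A L f}))
        (hsub ((1 : L ⧸ _) ⊗ₜ[L] ω))
      rw [map_zero] at this
      rw [← Submodule.Quotient.mk_smul, ← this]
      exact (TensorProduct.quotTensorEquivQuotSMul_mk_tmul (Ideal.span {algebraMap A L f}) 1 ω).symm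
    exact Submodule.smul_mono_left ((Ideal.span_singleton_le_iff_mem _).2 hf) h1
  have hbot : (⊤ : Submodule L Ω[L⁄A]) = ⊥ :=
    Submodule.eq_bot_of_le_smul_of_le_jacobson_bot _ _
      (Module.finite_def.1 (inferInstance : Module.Finite L Ω[L⁄A])) htop
      (jacobson_eq_maximalIdeal ⊥ bot_ne_top).ge
  exact ⟨subsingleton_of_forall_eq 0 fun ω => (Submodule.mem_bot L).1 (hbot ▸ Submodule.mem_top)⟩

/-- A prime of a finite algebra over `f` is étale if the algebra modulo `f` is, locally, étale over
the base modulo `f`. -/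
theorem isEtaleAt_of_quotient {A B C : Type u} [CommRing A] [IsNoetherianRing A] [CommRing B]
    [Algebra A B] [Module.Finite A B] (f : A) (hB : ∀ x : B, f • x = 0 → x = 0) [CommRing C]
    [Algebra A C] [Algebra (A ⧸ Ideal.span {f}) C] [IsScalarTower A (A ⧸ Ideal.span {f}) C]
    [Algebra.Etale (A ⧸ Ideal.span {f}) C] (g : B →ₐ[A] C) (b : B) (hunit : IsUnit (g b))
    (hker : ∀ x, g x = 0 → ∃ (l : ℕ) (y : B), b ^ l * x = f • y)
    (hsurj : ∀ c, ∃ (l : ℕ) (x : B), g x = g b ^ l * c)
    (q : Ideal B) [q.IsPrime] (hb : b ∉ q) (hfq : algebraMap A B f ∈ q) :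
    Algebra.IsEtaleAt A q := by
  have : IsNoetherianRing B := isNoetherian_of_tower A (inferInstanceAs (IsNoetherian A B))
  have : Algebra.FinitePresentation A B := Algebra.FinitePresentation.of_finiteType.1 inferInstance
  let L := Localization.AtPrime q
  let I : Ideal A := Ideal.span {f}
  let JB : Ideal B := Ideal.span {algebraMap A B f}
  have hgJ : ∀ x ∈ JB, g x = 0 := fun x hx => by
    obtain ⟨y, rfl⟩ := Ideal.mem_span_singleton'.1 hx
    rw [map_mul, AlgHom.commutes, IsScalarTower.algebraMap_apply A (A ⧸ I) C,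
      Ideal.Quotient.algebraMap_eq, Ideal.Quotient.eq_zero_iff_mem.2 (Ideal.mem_span_singleton_self f),
      map_zero, mul_zero]
  let ψ : (B ⧸ JB) →+* C := Ideal.Quotient.lift JB g.toRingHom hgJ
  let : Algebra (B ⧸ JB) C := ψ.toAlgebra
  let bb : B ⧸ JB := Ideal.Quotient.mk JB b
  have hC : IsLocalization.Away bb C := by
    refine { map_units := ?_, surj := ?_, exists_of_eq := ?_ }
    · rintro ⟨_, l, rfl⟩
      rw [map_pow]
      exact hunit.pow l
    · intro c
      obtain ⟨l, x, hx⟩ := hsurj c
      refine ⟨⟨Ideal.Quotient.mk JB x, bb ^ l, l, rfl⟩, ?_⟩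
      show c * ψ (bb ^ l) = g x
      rw [hx, map_pow, mul_comm]
      rfl
    · intro x y h
      obtain ⟨x, rfl⟩ := Ideal.Quotient.mk_surjective x
      obtain ⟨y, rfl⟩ := Ideal.Quotient.mk_surjective y
      obtain ⟨l, z, hz⟩ := hker (x - y) (by rw [map_sub, sub_eq_zero]; exact h)
      refine ⟨⟨bb ^ l, l, rfl⟩, ?_⟩
      show bb ^ l * _ = bb ^ l * _
      rw [← map_pow, ← map_mul, ← map_mul, Ideal.Quotient.eq, ← mul_sub, hz, Algebra.smul_def]
      exact Ideal.mul_mem_right _ _ (Ideal.mem_span_singleton_self _)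
  let JL : Ideal L := JB.map (algebraMap B L)
  let Q := L ⧸ JL
  have hQ : IsLocalization (Algebra.algebraMapSubmonoid (B ⧸ JB) q.primeCompl) Q := inferInstance
  have hbb : bb ∈ Algebra.algebraMapSubmonoid (B ⧸ JB) q.primeCompl := ⟨b, hb, rfl⟩
  let h : C →+* Q := IsLocalization.Away.lift bb
    (IsLocalization.map_units (M := Algebra.algebraMapSubmonoid (B ⧸ JB) q.primeCompl) Q ⟨bb, hbb⟩)
  let : Algebra C Q := h.toAlgebra
  have : IsScalarTower (B ⧸ JB) C Q :=
    .of_algebraMap_eq fun x => (IsLocalization.Away.lift_eq bb _ x).symm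
  have : IsLocalization (Algebra.algebraMapSubmonoid C (Algebra.algebraMapSubmonoid (B ⧸ JB) q.primeCompl)) Q :=
    .isLocalization_of_submonoid_le C Q (Submonoid.powers bb) _ (Submonoid.powers_le.2 hbb)
  have : IsScalarTower A C Q := .of_algebraMap_eq fun x => by
    show _ = h (algebraMap A C x)
    rw [← g.commutes x]
    show _ = h (algebraMap (B ⧸ JB) C (Ideal.Quotient.mk JB (algebraMap A B x)))
    simp only [h, IsLocalization.Away.lift_eq]
    rfl
  have : Module.Flat C Q := IsLocalization.flat Q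
    (Algebra.algebraMapSubmonoid C (Algebra.algebraMapSubmonoid (B ⧸ JB) q.primeCompl))
  have : Algebra.FormallyEtale C Q := Algebra.FormallyEtale.of_isLocalization
    (Algebra.algebraMapSubmonoid C (Algebra.algebraMapSubmonoid (B ⧸ JB) q.primeCompl))
  have : Algebra.FormallyUnramified A C :=
    haveI : Algebra.FormallyUnramified A (A ⧸ I) := inferInstance
    Algebra.FormallyUnramified.comp A (A ⧸ I) C
  have hQu : Algebra.FormallyUnramified A Q := Algebra.FormallyUnramified.comp A C Q
  let : Algebra (A ⧸ I) Q := (h.comp (algebraMap (A ⧸ I) C)).toAlgebra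
  have : IsScalarTower (A ⧸ I) C Q := .of_algebraMap_eq fun _ => rfl
  have : IsScalarTower A (A ⧸ I) Q := .of_algebraMap_eq fun x => by
    show _ = h (algebraMap (A ⧸ I) C (algebraMap A (A ⧸ I) x))
    rw [← IsScalarTower.algebraMap_apply A (A ⧸ I) C, IsScalarTower.algebraMap_apply A C Q]
    rfl
  have : Module.Flat (A ⧸ I) Q := Module.Flat.trans (A ⧸ I) C Q
  have hJL : JL = Ideal.span {algebraMap A L f} := by
    simp only [JL, JB, Ideal.map_span, Set.image_singleton, ← IsScalarTower.algebraMap_apply]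
  have hfL : algebraMap A L f ∈ maximalIdeal L := by
    rw [IsScalarTower.algebraMap_apply A B L]
    exact (IsLocalization.AtPrime.to_map_mem_maximal_iff L q _).2 hfq
  rw [Lib.Unram.AtPrime.isEtaleAt_iff]
  refine ⟨?_, ?_⟩
  · have : IsNoetherianRing L := IsLocalization.isNoetherianRing q.primeCompl L inferInstance
    have hsmul : (I • ⊤ : Submodule A L) = JL.restrictScalars A := by
      rw [Ideal.smul_top_eq_map, Ideal.map_span, Set.image_singleton, hJL]
    let e : (A ⧸ I) ⊗[A] L ≃ₗ[A] Q :=
      (TensorProduct.quotTensorEquivQuotSMul L I).trans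
        ((Submodule.quotEquivOfEq _ _ hsmul).trans (Submodule.Quotient.restrictScalarsEquiv A JL))
    let e' : (A ⧸ I) ⊗[A] L ≃ₗ[A ⧸ I] Q :=
      e.extendScalarsOfSurjective Ideal.Quotient.mk_surjective
    have : Module.Flat (A ⧸ I) ((A ⧸ I) ⊗[A] L) := Module.Flat.of_linearEquiv e'
    refine Lib.LocalFlat.Criterion.flat_of_injective_of_flat_quotient L I
      (Lib.LocalFlat.Criterion.map_le_jacobson_bot ?_)
      (lTensor_span_singleton_injective f fun m hm => ?_)
    · refine ne_top_of_le_ne_top (maximalIdeal.isMaximal L).ne_top ?_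
      rw [Ideal.map_span, Set.image_singleton, Ideal.span_singleton_le_iff_mem]
      exact hfL
    · obtain ⟨⟨x, s⟩, hxs⟩ := IsLocalization.surj q.primeCompl m
      have h1 : algebraMap B L (f • x) = 0 := by
        rw [Algebra.smul_def, map_mul, ← IsScalarTower.algebraMap_apply, ← hxs, ← mul_assoc,
          ← Algebra.smul_def, hm, zero_mul]
      obtain ⟨t, ht⟩ := (IsLocalization.map_eq_zero_iff q.primeCompl L _).1 h1
      rw [mul_smul_comm] at ht
      have h2 : algebraMap B L x = 0 :=
        (IsLocalization.map_eq_zero_iff q.primeCompl L _).2 ⟨t, hB _ ht⟩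
      rw [h2] at hxs
      exact (IsUnit.mul_left_eq_zero (IsLocalization.map_units L s)).1 hxs
  · exact formallyUnramified_of_quotient f hfL JL hJL

end Groth.Agent.H99.FEtAlg
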