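import Groth.Agent.H99.FEtAlg.System
import Groth.Agent.H99.FEtAlg.EtaleAt
import Groth.Agent.Lib.SmoothLift.NilLift
import Groth.Agent.H80.UnivHomeo.Steps
import Groth.Agent.H80.Clopen.SeriesPurity

/-!
# Extension of formal covers to a neighbourhood
-/

set_option autoImplicit false
set_option linter.unusedSectionVars false
set_option linter.style.haveILetI false
set_option backward.isDefEq.respectTransparency false

noncomputable section

universe u

open CategoryTheory CategoryTheory.Limits AlgebraicGeometry IsLocalRing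
open Groth.Agent.H80.Clopen (str basicOpen_str res res_res mem_puncturedSpec_iff)

namespace Groth.Agent.H99.FEtAlg

variable {A : Type u} [CommRing A]

/-- A scheme over the base covered by charts, with a map to a spectrum which is a localization on
each chart, maps by an open immersion. -/
theorem isOpenImmersion_of_charts {ι : Type} {a : ι → A} {W : Scheme.{u}}
    {w : W ⟶ Spec (CommRingCat.of A)} (hc : Chart a w) {R : Type u} [CommRing R] [Algebra A R]
    (g : R →+* Γ(W, ⊤)) (hg : ∀ r, g (algebraMap A R r) = str w r)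
    (hloc : ∀ i, @IsLocalization.Away R _ (algebraMap A R (a i)) Γ(W, W.basicOpen (str w (a i))) _
      ((chartRes w (a i)).comp g).toAlgebra) :
    IsOpenImmersion (W.toSpecΓ ≫ Spec.map (CommRingCat.ofHom g)) ∧
      Set.range (W.toSpecΓ ≫ Spec.map (CommRingCat.ofHom g)).base =
        {p | ∃ i, algebraMap A R (a i) ∉ (p : PrimeSpectrum R).asIdeal} := by
  let φ := W.toSpecΓ ≫ Spec.map (CommRingCat.ofHom g)
  have hmem : ∀ x i, x ∈ W.basicOpen (str w (a i)) ↔
      algebraMap A R (a i) ∉ ((φ.base x : Spec (CommRingCat.of R)) : PrimeSpectrum R).asIdeal := by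
    intro x i
    have e : W.basicOpen (str w (a i)) = φ ⁻¹ᵁ PrimeSpectrum.basicOpen (algebraMap A R (a i)) := by
      rw [← hg, ← basicOpen_str]
      congr 1
      have h := Scheme.ΓSpecIso_inv_naturality (CommRingCat.ofHom g)
      rw [str, Scheme.Hom.comp_appTop, ← Category.assoc, ← h, Category.assoc, CommRingCat.hom_comp,
        RingHom.comp_apply]
      have h2 : (Scheme.ΓSpecIso Γ(W, ⊤)).inv ≫ W.toSpecΓ.appTop = 𝟙 _ := by simp
      exact (ConcreteCategory.congr_hom h2 _).symm
    rw [e]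
    rfl
  let ψ := fun i => (hc.affine i).fromSpec ≫ φ
  have hψ : ∀ i, IsOpenImmersion (ψ i) ∧
      Set.range (ψ i).base = {p | algebraMap A R (a i) ∉ (p : PrimeSpectrum R).asIdeal} := fun i => by
    have e : ψ i = Spec.map (CommRingCat.ofHom ((chartRes w (a i)).comp g)) := by
      simp only [ψ, φ]
      rw [← Category.assoc, IsAffineOpen.fromSpec_toSpecΓ, ← Spec.map_comp]
      rfl
    let := ((chartRes w (a i)).comp g).toAlgebra
    haveI := hloc i
    refine ⟨e ▸ IsOpenImmersion.of_isLocalization (algebraMap A R (a i)), ?_⟩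
    rw [e]
    exact PrimeSpectrum.localization_away_comap_range _ (algebraMap A R (a i))
  have hcov : ∀ x : W, ∃ i, x ∈ W.basicOpen (str w (a i)) := fun x =>
    TopologicalSpace.Opens.mem_iSup.mp (hc.cover.ge (Set.mem_univ x))
  have hinj : Function.Injective φ.base := fun x y hxy => by
    obtain ⟨i, hi⟩ := hcov x
    have hi' : y ∈ W.basicOpen (str w (a i)) := (hmem y i).2 (hxy ▸ (hmem x i).1 hi)
    rw [← (hc.affine i).opensRange_fromSpec] at hi hi'
    obtain ⟨x', rfl⟩ := hi
    obtain ⟨y', rfl⟩ := hi'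
    haveI := (hψ i).1
    exact congrArg _ ((ψ i).isOpenEmbedding.injective hxy)
  refine ⟨IsOpenImmersion.of_forall_source_exists φ hinj fun x => ?_, ?_⟩
  · obtain ⟨i, hi⟩ := hcov x
    exact ⟨_, (hc.affine i).fromSpec, inferInstance, by rwa [(hc.affine i).opensRange_fromSpec], (hψ i).1⟩
  · ext p
    constructor
    · rintro ⟨x, rfl⟩
      obtain ⟨i, hi⟩ := hcov x
      exact ⟨i, (hmem x i).1 hi⟩
    · rintro ⟨i, hi⟩
      obtain ⟨x, hx⟩ := (hψ i).2.ge hi
      exact ⟨_, hx⟩

/-- An open inside the étale locus is étale. -/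
theorem etale_of_le_etaleLocus {B : Type u} [CommRing B] [Algebra A B] [Algebra.FinitePresentation A B]
    (O : (Spec (CommRingCat.of B)).Opens) (hO : ∀ p ∈ O, (p : PrimeSpectrum B) ∈ Algebra.etaleLocus A B) :
    Etale (O.ι ≫ Spec.map (CommRingCat.ofHom (algebraMap A B))) := by
  have hx : ∀ x : O, ∃ r : B, x.1 ∈ PrimeSpectrum.basicOpen r ∧ PrimeSpectrum.basicOpen r ≤ O := fun x => by
    obtain ⟨_, ⟨_, ⟨r, rfl⟩, rfl⟩, hxr, hr⟩ :=
      PrimeSpectrum.isBasis_basic_opens.exists_subset_of_mem_open x.2 O.2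
    exact ⟨r, hxr, hr⟩
  choose r hxr hrO using hx
  let j : ∀ x : O, Spec (CommRingCat.of (Localization.Away (r x))) ⟶ Spec (CommRingCat.of B) :=
    fun x => Spec.map (CommRingCat.ofHom (algebraMap B (Localization.Away (r x))))
  haveI : ∀ x, IsOpenImmersion (j x) := fun x => IsOpenImmersion.of_isLocalization (r x)
  have hjr : ∀ x, Set.range (j x).base = (PrimeSpectrum.basicOpen (r x) : Set (PrimeSpectrum B)) :=
    fun x => PrimeSpectrum.localization_away_comap_range _ (r x)
  let l : ∀ x : O, Spec (CommRingCat.of (Localization.Away (r x))) ⟶ (O : Scheme.{u}) := fun x =>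
    H80.Clopen.liftOpen O (j x) fun p => hrO x (by
      have : (j x).base p ∈ Set.range (j x).base := ⟨p, rfl⟩
      rw [hjr] at this
      exact this)
  have hl : ∀ x, l x ≫ O.ι = j x := fun x => H80.Clopen.liftOpen_ι _ _ _
  haveI : ∀ x, IsOpenImmersion (l x) := fun x => by
    haveI : IsOpenImmersion (l x ≫ O.ι) := by rw [hl]; infer_instance
    exact IsOpenImmersion.of_comp (l x) O.ι
  have hcov : ∀ p : (O : Scheme.{u}), ∃ x y, (l x).base y = p := fun p => by
    obtain ⟨y, hy⟩ : p.1 ∈ Set.range (j p).base := by rw [hjr]; exact hxr p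
    refine ⟨p, y, O.ι.isOpenEmbedding.injective ?_⟩
    rw [← Scheme.Hom.comp_apply, hl]
    exact hy
  let 𝒰 : (O : Scheme.{u}).OpenCover := Scheme.Cover.mkOfCovers ↥(O : Scheme.{u})
    (fun x => Spec (CommRingCat.of (Localization.Away (r x)))) l hcov (fun x => inferInstance)
  refine (IsZariskiLocalAtSource.iff_of_openCover (P := @Etale) 𝒰).mpr fun x => ?_
  show Etale (l x ≫ O.ι ≫ _)
  rw [← Category.assoc, hl, ← Spec.map_comp, HasRingHomProperty.Spec_iff (P := @Etale),
    ← CommRingCat.ofHom_comp, CommRingCat.hom_ofHom, ← IsScalarTower.algebraMap_eq]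
  exact RingHom.etale_algebraMap.mpr
    (Algebra.basicOpen_subset_etaleLocus_iff_etale.mp fun p hp => hO p (hrO x hp))

/-- Numerators and denominators make a localization of the quotient. -/
theorem isLocalization_chart {B C : Type u} [CommRing B] [Algebra A B] [CommRing C] (f : A)
    (J : Ideal B) (hJ : J = Ideal.span {algebraMap A B f}) (h : B ⧸ J →+* C) (b : B)
    (hu : IsUnit (h (Ideal.Quotient.mk J b)))
    (hk : ∀ x, h (Ideal.Quotient.mk J x) = 0 → ∃ (l : ℕ) (y : B), b ^ l * x = f • y)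
    (hsur : ∀ c, ∃ (l : ℕ) (x : B), h (Ideal.Quotient.mk J x) = h (Ideal.Quotient.mk J b) ^ l * c) :
    @IsLocalization.Away (B ⧸ J) _ (Ideal.Quotient.mk J b) C _ h.toAlgebra := by
  letI := h.toAlgebra
  refine { map_units := ?_, surj := ?_, exists_of_eq := ?_ }
  · rintro ⟨_, l, rfl⟩
    rw [map_pow]
    exact hu.pow l
  · intro c
    obtain ⟨l, x, hx⟩ := hsur c
    refine ⟨⟨Ideal.Quotient.mk J x, Ideal.Quotient.mk J b ^ l, l, rfl⟩, ?_⟩
    show c * h (Ideal.Quotient.mk J b ^ l) = h (Ideal.Quotient.mk J x)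
    rw [hx, map_pow, mul_comm]
  · intro x y he
    obtain ⟨x, rfl⟩ := Ideal.Quotient.mk_surjective x
    obtain ⟨y, rfl⟩ := Ideal.Quotient.mk_surjective y
    obtain ⟨l, z, hz⟩ := hk (x - y) (by rw [map_sub, map_sub, sub_eq_zero]; exact he)
    refine ⟨⟨Ideal.Quotient.mk J b ^ l, l, rfl⟩, ?_⟩
    show Ideal.Quotient.mk J b ^ l * _ = Ideal.Quotient.mk J b ^ l * _
    rw [← map_pow, ← map_mul, ← map_mul, Ideal.Quotient.eq, ← mul_sub, hz, Algebra.smul_def, hJ]
    exact Ideal.mul_mem_right _ _ (Ideal.mem_span_singleton_self _)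

variable [IsNoetherianRing A] [IsLocalRing A] {f : A}

set_option maxHeartbeats 1600000 in
/-- Covers of the trace of `V(f)` on the punctured spectrum extend to a neighbourhood. -/
theorem exists_extension [IsAdicComplete (Ideal.span {f}) A] (hnz : f ∈ nonZeroDivisors A)
    (I : Ideal A) (hI : I = Ideal.span {f})
    (h1 : Module.Finite A (LocCoh.H (maximalIdeal A) 1 (A ⧸ I)))
    (h2 : Module.Finite A (LocCoh.H (maximalIdeal A) 2 (A ⧸ I))) (V₀ : FEt.Cat (PI I)) :
    ∃ (U' : (Spec (CommRingCat.of A)).Opens) (_ : U' ≤ FEt.puncturedSpec A)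
      (u' : PI I ⟶ (U' : Scheme.{u}))
      (_ : u' ≫ U'.ι = pullback.fst (FEt.puncturedSpec A).ι (qI I) ≫ (FEt.puncturedSpec A).ι)
      (V' : FEt.Cat (U' : Scheme.{u})), Nonempty ((FEt.restrict u').obj V' ≅ V₀) := by
  obtain rfl : I = Jn f 0 := by rw [hI, Jn, zero_add, pow_one]
  letI := algMn (A := A) f
  obtain ⟨N, a, ha⟩ := H80.Clopen.exists_generators A
  obtain ⟨B, _, _, hfin, hB, g, hker, hcok⟩ := exists_algebra f V₀ ha hnz h1 h2
  letI : Algebra A (Mn f V₀ 0) := algMn f V₀ 0
  haveI := hfin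
  let P : Type u := Mn f V₀ 0
  let w := wn f V₀ 0
  let v := vn f V₀ 0
  have hc := chart f V₀ ha 0
  let π : Spec (CommRingCat.of B) ⟶ Spec (CommRingCat.of A) := Spec.map (CommRingCat.ofHom (algebraMap A B))
  haveI : IsFinite π := (IsFinite.SpecMap_iff _).mpr (RingHom.finite_algebraMap.mpr hfin)
  haveI : Algebra.FinitePresentation A B := Algebra.FinitePresentation.of_finiteType.1 inferInstance
  let U := FEt.puncturedSpec A
  -- the data on a chart
  let C := fun i => Γ((Vn f V₀ 0).left, (Vn f V₀ 0).left.basicOpen (str w (a i)))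
  have hgr : ∀ (i) (x : B), chartRes w (a i) (g x) = 0 →
      ∃ (l : ℕ) (y : B), algebraMap A B (a i) ^ l * x = f • y := fun i x hx => by
    obtain ⟨l, hl⟩ := hc.eq_zero_chart i _ hx
    refine ⟨l, (hker _).1 ?_⟩
    rw [map_mul, map_pow, AlgHom.commutes]
    exact hl
  have hgs : ∀ (i) (c : C i), ∃ (l : ℕ) (x : B),
      chartRes w (a i) (g x) = chartRes w (a i) (str w (a i)) ^ l * c := fun i c => by
    obtain ⟨l, y, hy⟩ := hc.exists_chart i c
    obtain ⟨l', x, hx⟩ := hcok y i
    refine ⟨l' + l, x, ?_⟩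
    rw [hx, Algebra.smul_def, map_pow, pow_add, mul_assoc, ← hy, map_mul, map_pow]
    rfl
  -- the closed fibre
  let Ie : Ideal B := (Jn f 0).map (algebraMap A B)
  have hIe : Ie = Ideal.span {algebraMap A B f} := by
    simp only [Ie, Ideal.map_span, Set.image_singleton, zero_add, pow_one]
  have hgI : ∀ x ∈ Ie, g x = 0 := fun x hx => by
    rw [hIe, Ideal.mem_span_singleton'] at hx
    obtain ⟨y, rfl⟩ := hx
    exact (hker _).2 ⟨y, by rw [Algebra.smul_def, mul_comm]⟩
  let gb : (B ⧸ Ie) →+* Mn f V₀ 0 := Ideal.Quotient.lift Ie g.toRingHom hgI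
  obtain ⟨hφo, hφr⟩ := isOpenImmersion_of_charts (R := B ⧸ Ie) hc gb
    (fun r => by
      show g (algebraMap A B r) = _
      exact g.commutes r) (fun i => by
      exact isLocalization_chart f Ie hIe ((chartRes w (a i)).comp gb) (algebraMap A B (a i))
        (by
          show IsUnit (chartRes w (a i) (g (algebraMap A B (a i))))
          rw [AlgHom.commutes]
          exact isUnit_chartRes w (a i))
        (fun x hx => hgr i x hx)
        (fun c => by
          obtain ⟨l, x, hx⟩ := hgs i c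
          refine ⟨l, x, hx.trans ?_⟩
          show _ = chartRes w (a i) (g (algebraMap A B (a i))) ^ l * c
          rw [AlgHom.commutes]
          rfl))
  let φ := (Vn f V₀ 0).left.toSpecΓ ≫ Spec.map (CommRingCat.ofHom gb)
  -- etale points
  have het : ∀ (p : PrimeSpectrum B) (i), algebraMap A B (a i) ∉ p.asIdeal →
      algebraMap A B f ∈ p.asIdeal → p ∈ Algebra.etaleLocus A B := fun p i hi hfp => by
    rw [Algebra.mem_etaleLocus_iff]
    let D := (Vn f V₀ 0).left.basicOpen (str w (a i))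
    let c₀ : A ⧸ Jn f 0 →+* C i := (chartRes w (a i)).comp (str v)
    letI : Algebra A (C i) := ((chartRes w (a i)).comp (str w)).toAlgebra
    have he : Ideal.span {f} = Jn f 0 := by simp [Jn]
    let q : A ⧸ Ideal.span {f} →+* C i := c₀.comp (Ideal.quotEquivOfEq he).toRingHom
    letI : Algebra (A ⧸ Ideal.span {f}) (C i) := q.toAlgebra
    haveI : IsScalarTower A (A ⧸ Ideal.span {f}) (C i) := .of_algebraMap_eq' (by
      show (chartRes w (a i)).comp (str w) = q.comp (Ideal.Quotient.mk _)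
      simp only [w, wn, str_comp]
      rfl)
    haveI : Algebra.Etale (A ⧸ Ideal.span {f}) (C i) := RingHom.etale_algebraMap.mp
      (RingHom.Etale.stableUnderComposition _ _
        (RingHom.Etale.of_bijective (Ideal.quotEquivOfEq he).bijective)
        (etale_chart v (hc.affine i)))
    let gi : B →ₐ[A] C i :=
      { (chartRes w (a i)).comp g.toRingHom with
        commutes' := fun r => congrArg (chartRes w (a i)) (g.commutes r) }
    refine isEtaleAt_of_quotient f hB gi (algebraMap A B (a i)) ?_ (hgr i) (fun c => ?_) p.asIdeal hi hfp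
    · rw [AlgHom.commutes]
      exact isUnit_chartRes w (a i)
    · rw [AlgHom.commutes]
      exact hgs i c
  -- the neighbourhood
  let Nlocus : Set (PrimeSpectrum B) := (Algebra.etaleLocus A B)ᶜ
  have hNc : IsClosed (π.base '' Nlocus) :=
    π.isClosedMap _ Algebra.isOpen_etaleLocus.isClosed_compl
  let U' : (Spec (CommRingCat.of A)).Opens := ⟨(U : Set (Spec (CommRingCat.of A))) \ π.base '' Nlocus,
    U.2.sdiff hNc⟩
  have hU' : U' ≤ U := fun x hx => hx.1
  have hmemU' : ∀ z : Spec (CommRingCat.of A), z ∈ U → f ∈ (z : PrimeSpectrum A).asIdeal → z ∈ U' := by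
    intro z hz hfz
    refine ⟨hz, ?_⟩
    rintro ⟨p, hp, rfl⟩
    obtain ⟨i, hi⟩ := (mem_puncturedSpec_iff ha _).mp hz
    exact hp (het p i hi hfz)
  have hloc : ∀ p ∈ π ⁻¹ᵁ U', (p : PrimeSpectrum B) ∈ Algebra.etaleLocus A B :=
    fun p hp => by_contra fun h => hp.2 ⟨p, h, rfl⟩
  haveI : Etale (π ∣_ U') := by
    haveI : Etale ((π ∣_ U') ≫ U'.ι) := by
      rw [morphismRestrict_ι]
      exact etale_of_le_etaleLocus _ hloc
    exact MorphismProperty.of_postcomp (W := @Etale) (W' := @IsOpenImmersion) _ U'.ι inferInstance ‹_›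
  haveI : IsFinite (π ∣_ U') := MorphismProperty.of_isPullback (isPullback_morphismRestrict π U').flip ‹IsFinite π›
  let V' : FEt.Cat (U' : Scheme.{u}) := MorphismProperty.Over.mk ⊤ (π ∣_ U') ⟨‹_›, ‹_›⟩
  -- the map from the trace
  let p₀ := pullback.fst U.ι (qI (Jn f 0)) ≫ U.ι
  have hp₀f : ∀ t, f ∈ ((p₀.base t : Spec (CommRingCat.of A)) : PrimeSpectrum A).asIdeal := fun t => by
    have e : p₀ = pullback.snd U.ι (qI (Jn f 0)) ≫ qI (Jn f 0) := pullback.condition
    rw [e, Scheme.Hom.comp_apply]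
    show Ideal.Quotient.mk _ f ∈ ((pullback.snd U.ι (qI (Jn f 0))).base t : PrimeSpectrum _).asIdeal
    rw [Ideal.Quotient.eq_zero_iff_mem.2 (show f ∈ Jn f 0 by
      simp only [Jn, zero_add, pow_one]; exact Ideal.mem_span_singleton_self f)]
    exact Ideal.zero_mem _
  let u' : PI (Jn f 0) ⟶ (U' : Scheme.{u}) := H80.Clopen.liftOpen U' p₀ fun t =>
    hmemU' _ ((pullback.fst U.ι (qI (Jn f 0))).base t).2 (hp₀f t)
  have hu' : u' ≫ U'.ι = p₀ := H80.Clopen.liftOpen_ι _ _ _
  refine ⟨U', hU', u', hu', V', ?_⟩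
  -- the comparison
  have sq := (Lib.SmoothLift.NilLift.isPullback_quotient (CommRingCat.ofHom (algebraMap A B)) (Jn f 0)).flip
  let mkB : Spec (CommRingCat.of (B ⧸ Ie)) ⟶ Spec (CommRingCat.of B) :=
    Spec.map (CommRingCat.ofHom (Ideal.Quotient.mk Ie))
  let θ : Spec (CommRingCat.of (B ⧸ Ie)) ⟶ Spec (CommRingCat.of (A ⧸ Jn f 0)) :=
    Spec.map (CommRingCat.ofHom (Ideal.quotientMap Ie (algebraMap A B) Ideal.le_comap_map))
  replace sq : IsPullback mkB θ π (qI (Jn f 0)) := sq
  have hφθ : φ ≫ θ = v := by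
    rw [← cancel_mono (qI (Jn f 0)), Category.assoc, ← sq.w]
    show φ ≫ mkB ≫ π = wn f V₀ 0
    have hfac : wn f V₀ 0 = (Vn f V₀ 0).left.toSpecΓ ≫ Spec.map (CommRingCat.ofHom (str (wn f V₀ 0))) := by
      rw [str, CommRingCat.ofHom_hom, Spec.map_comp, ← Scheme.toSpecΓ_naturality_assoc,
        toSpecΓ_SpecMap_ΓSpecIso_inv, Category.comp_id]
    conv_rhs => rw [hfac]
    simp only [φ, mkB, π, Category.assoc, ← Spec.map_comp]
    congr 2
    ext r
    exact g.commutes r
  haveI := hφo
  -- the trace of the algebra is the cover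
  let O : (Spec (CommRingCat.of (B ⧸ Ie))).Opens := θ ⁻¹ᵁ (qI (Jn f 0) ⁻¹ᵁ U)
  have hrange : Set.range φ.base = (O : Set (Spec (CommRingCat.of (B ⧸ Ie)))) := by
    rw [hφr]
    ext p
    refine Iff.trans ?_ (mem_puncturedSpec_iff ha ((qI (Jn f 0)).base (θ.base p))).symm
    rfl
  haveI : IsOpenImmersion (qI (Jn f 0) ⁻¹ᵁ U).ι := inferInstance
  let PA := pullback θ (pullback.snd U.ι (qI (Jn f 0)))
  have hr2 : Set.range (pullback.fst θ (pullback.snd U.ι (qI (Jn f 0)))).base = Set.range φ.base := by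
    rw [hrange, Scheme.Pullback.range_fst, Scheme.Pullback.range_snd, Scheme.Opens.range_ι]
    rfl
  let k : (Vn f V₀ 0).left ≅ PA := IsOpenImmersion.isoOfRangeEq φ _ hr2.symm
  have hk : k.hom ≫ pullback.fst _ _ = φ := IsOpenImmersion.isoOfRangeEq_hom_fac _ _ _
  have hpb0 : IsPullback φ (Vn f V₀ 0).hom θ (pullback.snd U.ι (qI (Jn f 0))) := by
    refine (IsPullback.of_hasPullback θ (pullback.snd U.ι (qI (Jn f 0)))).of_iso k.symm (Iso.refl _)
      (Iso.refl _) (Iso.refl _) ?_ ?_ (by simp) (by simp)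
    · rw [Iso.refl_hom, Category.comp_id, Iso.symm_hom, ← hk, Iso.inv_hom_id_assoc]
    · rw [Iso.refl_hom, Category.comp_id, Iso.symm_hom]
      rw [← cancel_epi k.hom, Iso.hom_inv_id_assoc, ← cancel_mono (pullback.snd U.ι (qI (Jn f 0))),
        Category.assoc, ← pullback.condition, reassoc_of% hk, hφθ]
  have hpb1 : IsPullback (φ ≫ mkB) (Vn f V₀ 0).hom π p₀ := by
    have := hpb0.paste_horiz sq
    rwa [← pullback.condition] at this
  let jV : (Vn f V₀ 0).left ⟶ (π ⁻¹ᵁ U' : Scheme.{u}) :=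
    (isPullback_morphismRestrict π U').flip.lift (φ ≫ mkB) ((Vn f V₀ 0).hom ≫ u')
      (by rw [hpb1.w]; simp only [Category.assoc, hu'])
  have hpb2 : IsPullback jV (Vn f V₀ 0).hom (π ∣_ U') u' := by
    refine IsPullback.of_right ?_ ((isPullback_morphismRestrict π U').flip.lift_snd _ _ _)
      (isPullback_morphismRestrict π U').flip
    rw [(isPullback_morphismRestrict π U').flip.lift_fst, hu']
    exact hpb1
  exact ⟨(H80.UnivHomeo.nonempty_iso_of_isPullback u' V₀ V' jV hpb2).some⟩

end Groth.Agent.H99.FEtAlg
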