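import Groth.Agent.H99.FEtAlg.Sat
import Groth.Agent.Lib.LCFin.Seq
import Groth.Agent.Lib.LocalCoh.TransformDerived

/-!
# Finiteness for saturated modules which are locally retracts of a fixed module
-/

set_option autoImplicit false
set_option linter.unusedSectionVars false
set_option linter.style.haveILetI false
set_option backward.isDefEq.respectTransparency false

universe u

open CategoryTheory Groth.Agent.Lib.LocalCoh Groth.Agent.Lib.LCFin.Seq
open Groth.Agent.H80.Clopen (exists_common)

namespace Groth.Agent.H99.FEtAlg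

variable {R : Type u} [CommRing R] [IsNoetherianRing R]

lemma finite_of_exact {X Y Z : Type u} [AddCommGroup X] [Module R X] [AddCommGroup Y] [Module R Y]
    [AddCommGroup Z] [Module R Z] {f : X →ₗ[R] Y} {g : Y →ₗ[R] Z} (h : Function.Exact f g)
    (hX : Module.Finite R X) (hZ : Module.Finite R Z) : Module.Finite R Y := by
  refine Module.finite_def.2 (Submodule.fg_of_fg_map_of_fg_inf_ker g (IsNoetherian.noetherian _) ?_)
  rw [top_inf_eq, h.linearMap_ker_eq, LinearMap.range_eq_map]
  exact (Module.finite_def.1 hX).map f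

variable {I : Ideal R} {M : Type u} [AddCommGroup M] [Module R M]

lemma finite_H_zero [Module.Finite R M] : Module.Finite R (LocCoh.H I 0 M) :=
  Module.Finite.equiv (M := DRing.torsionSub I M)
    ((lcZeroIso I).app (ModuleCat.of R M)).toLinearEquiv.symm

lemma subsingleton_H {N : Type u} [AddCommGroup N] [Module R N] (hN : LocCoh.IsPowerTorsion I N)
    (i : ℕ) : Subsingleton (LocCoh.H I (i + 1) N) :=
  lc_subsingleton_of_isPowerTorsion I i (ModuleCat.of R N) hN

variable {N : Type u} [AddCommGroup N] [Module R N]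

/-- A surjection with torsion kernel is injective on higher local cohomology. -/
lemma Hmap_injective {g : M →ₗ[R] N} (hg : Function.Surjective g)
    (hk : LocCoh.IsPowerTorsion I (LinearMap.ker g)) (i : ℕ) :
    Function.Injective (Hmap I (i + 1) g) := by
  have hex := exact_map_map I (Submodule.subtype_injective _) hg
    (LinearMap.exact_subtype_ker_map g) (i + 1)
  have := subsingleton_H hk i
  rw [injective_iff_map_eq_zero]
  intro x hx
  obtain ⟨y, rfl⟩ := (hex x).1 hx
  rw [Subsingleton.elim y 0, map_zero]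

variable {ι : Type} {a : ι → R}

omit [IsNoetherianRing R] in
lemma torsion_ker [Finite ι] (g : M →ₗ[R] N)
    (h : ∀ x, g x = 0 → ∀ i, ∃ l : ℕ, a i ^ l • x = 0) :
    LocCoh.IsPowerTorsion (Ideal.span (Set.range a)) (LinearMap.ker g) := fun x =>
  (mem_torsionSub_iff x).2 fun i => (h x.1 x.2 i).imp fun _ hl => Subtype.ext hl

/-- The cohomology of a finite module which is a retract of `X` on the charts. -/
theorem finite_lc [Finite ι] [Fintype ι] {Y : Type u} [AddCommGroup Y] [Module R Y] [Module.Finite R Y]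
    (h1 : Module.Finite R (LocCoh.H (Ideal.span (Set.range a)) 1 Y))
    (h2 : Module.Finite R (LocCoh.H (Ideal.span (Set.range a)) 2 Y))
    (h1' : Module.Finite R (LocCoh.H (Ideal.span (Set.range a)) 1 (ι → Y)))
    [Module.Finite R M] (Φ : M →ₗ[R] Y) (S : ι → Y →ₗ[R] M) (k : ι → ℕ)
    (hret : ∀ i x, S i (Φ x) = a i ^ k i • x) :
    Module.Finite R (LocCoh.H (Ideal.span (Set.range a)) 1 M) ∧
      Module.Finite R (LocCoh.H (Ideal.span (Set.range a)) 2 M) := by
  let I := Ideal.span (Set.range a)
  let g : M →ₗ[R] LinearMap.range Φ := Φ.rangeRestrict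
  have hg : Function.Surjective g := Φ.surjective_rangeRestrict
  have hk : LocCoh.IsPowerTorsion I (LinearMap.ker g) := torsion_ker g fun x hx i =>
    ⟨k i, by rw [← hret i x, show Φ x = 0 from congrArg Subtype.val hx, map_zero]⟩
  let T : Y →ₗ[R] (ι → Y) := LinearMap.pi fun i => Φ ∘ₗ S i - a i ^ k i • LinearMap.id
  have hT : LinearMap.range Φ ≤ LinearMap.ker T := by
    rintro _ ⟨x, rfl⟩
    refine LinearMap.mem_ker.2 (funext fun i => ?_)
    show Φ (S i (Φ x)) - a i ^ k i • Φ x = 0
    rw [hret, map_smul, sub_self]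
  let q : (Y ⧸ LinearMap.range Φ) →ₗ[R] LinearMap.range T :=
    ((LinearMap.range Φ).liftQ T hT).codRestrict _ fun z => by
      obtain ⟨y, rfl⟩ := Submodule.mkQ_surjective _ z
      exact ⟨y, rfl⟩
  have hq : Function.Surjective q := by
    rintro ⟨_, y, rfl⟩
    exact ⟨Submodule.Quotient.mk y, rfl⟩
  have hqk : LocCoh.IsPowerTorsion I (LinearMap.ker q) := torsion_ker q fun z hz i => by
    obtain ⟨y, rfl⟩ := Submodule.mkQ_surjective _ z
    have h0 : Φ (S i y) - a i ^ k i • y = 0 := congrFun (congrArg Subtype.val hz) i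
    refine ⟨k i, ?_⟩
    rw [← map_smul, Submodule.mkQ_apply, Submodule.Quotient.mk_eq_zero, ← sub_eq_zero.1 h0]
    exact ⟨_, rfl⟩
  have hfT : Module.Finite R (LocCoh.H I 1 (LinearMap.range T)) :=
    finite_of_exact (exact_δ_map I (Submodule.subtype_injective _) (Submodule.mkQ_surjective _)
      (LinearMap.exact_subtype_mkQ (LinearMap.range T)) 0) finite_H_zero h1'
  have hfQ : Module.Finite R (LocCoh.H I 1 (Y ⧸ LinearMap.range Φ)) :=
    Module.Finite.of_injective _ (Hmap_injective hq hqk 0)
  have hf1 : Module.Finite R (LocCoh.H I 1 (LinearMap.range Φ)) :=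
    finite_of_exact (exact_δ_map I (Submodule.subtype_injective _) (Submodule.mkQ_surjective _)
      (LinearMap.exact_subtype_mkQ (LinearMap.range Φ)) 0) finite_H_zero h1
  have hf2 : Module.Finite R (LocCoh.H I 2 (LinearMap.range Φ)) :=
    finite_of_exact (exact_δ_map I (Submodule.subtype_injective _) (Submodule.mkQ_surjective _)
      (LinearMap.exact_subtype_mkQ (LinearMap.range Φ)) 1) hfQ h2
  exact ⟨Module.Finite.of_injective _ (Hmap_injective hg hk 0),
    Module.Finite.of_injective _ (Hmap_injective hg hk 1)⟩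

/-- Finite powers. -/
lemma finite_H_pi (i : ℕ) {Y : Type u} [AddCommGroup Y] [Module R Y] (κ : Type) [Fintype κ]
    (h : Module.Finite R (LocCoh.H I i Y)) : Module.Finite R (LocCoh.H I i (κ → Y)) := by
  classical
  let T : (κ → LocCoh.H I i Y) →ₗ[R] LocCoh.H I i (κ → Y) :=
    ∑ k, (Hmap I i (LinearMap.single R (fun _ : κ => Y) k)).comp (LinearMap.proj k)
  refine Module.Finite.of_surjective T fun y =>
    ⟨fun k => Hmap I i (LinearMap.proj (φ := fun _ : κ => Y) k) y, ?_⟩
  have hid : ∑ k, ModuleCat.ofHom (LinearMap.proj (φ := fun _ : κ => Y) k) ≫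
      ModuleCat.ofHom (LinearMap.single R (fun _ : κ => Y) k) = 𝟙 (ModuleCat.of R (κ → Y)) := by
    refine ModuleCat.hom_ext (LinearMap.ext fun x => ?_)
    rw [ModuleCat.hom_sum, LinearMap.sum_apply]
    exact Finset.univ_sum_single x
  have h1 := congrArg (fun χ => ((localCohomology I i).map χ).hom y) hid
  simp only [Functor.map_sum, Functor.map_comp, ModuleCat.hom_sum, LinearMap.sum_apply] at h1
  rw [show ((localCohomology I i).map (𝟙 (ModuleCat.of R (κ → Y)))).hom y = y by
    rw [CategoryTheory.Functor.map_id]; rfl] at h1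
  simp only [T, LinearMap.sum_apply]
  exact h1

variable (M a) in
/-- Local retractions onto finite powers of `B`. -/
def LocallyRetract (B : Type u) [AddCommGroup B] [Module R B] : Prop :=
  ∃ N : Submodule R M, N.FG ∧ (∀ (x : M) i, ∃ l : ℕ, a i ^ l • x ∈ N) ∧
    ∀ i, ∃ (r : ℕ) (h : N →ₗ[R] (Fin r → B)) (S : (Fin r → B) →ₗ[R] M) (k : ℕ),
      ∀ x : N, S (h x) = a i ^ k • (x : M)

/-- Saturated modules which are locally retracts of powers of `B` are finite and have finite `H²`. -/
theorem finite_of_locallyRetract [Finite ι] (hM : Sat a M) {B : Type u} [AddCommGroup B] [Module R B]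
    [Module.Finite R B]
    (h1 : Module.Finite R (LocCoh.H (Ideal.span (Set.range a)) 1 B))
    (h2 : Module.Finite R (LocCoh.H (Ideal.span (Set.range a)) 2 B))
    (hloc : LocallyRetract M a B) :
    Module.Finite R M ∧ Module.Finite R (LocCoh.H (Ideal.span (Set.range a)) 2 M) := by
  classical
  obtain ⟨N, hN, hcov, hloc⟩ := hloc
  have : Module.Finite R N := Module.Finite.iff_fg.2 hN
  have := Fintype.ofFinite ι
  let I := Ideal.span (Set.range a)
  choose r h S k hk using hloc
  -- push the local retractions into `N`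
  have hLS : ∀ i, ∃ L : ℕ, ∀ v, a i ^ L • S i v ∈ N := fun i => by
    obtain ⟨G, hG⟩ := (Module.finite_def.1 (inferInstance : Module.Finite R (Fin (r i) → B)))
    obtain ⟨L, hL⟩ := exists_common N (fun _ : G => a i) (fun g => S i g) fun g => hcov (S i g) i
    refine ⟨L, fun v => ?_⟩
    suffices hle : Submodule.span R (G : Set (Fin (r i) → B)) ≤ N.comap (a i ^ L • S i) from
      hle (hG ▸ Submodule.mem_top)
    exact Submodule.span_le.2 fun g hg => hL ⟨g, hg⟩
  choose L hL using hLS
  let e := Fintype.equivFin ι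
  let κ : Type := Σ j : Fin (Fintype.card ι), Fin (r (e.symm j))
  let Φ : N →ₗ[R] (κ → B) := LinearMap.pi fun w => (LinearMap.proj w.2).comp (h (e.symm w.1))
  let Si : ∀ i, (κ → B) →ₗ[R] N := fun i =>
    ((a (e.symm (e i)) ^ L (e.symm (e i)) • S (e.symm (e i))).codRestrict N
      fun v => hL _ v) ∘ₗ LinearMap.funLeft R B (fun t => (⟨e i, t⟩ : κ))
  have hret : ∀ i x, Si i (Φ x) = a i ^ (L i + k i) • x := fun i x => Subtype.ext (by
    show a (e.symm (e i)) ^ L (e.symm (e i)) • S (e.symm (e i)) (h (e.symm (e i)) x) = _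
    rw [hk, smul_smul, ← pow_add, e.symm_apply_apply]
    rfl)
  obtain ⟨hN1, hN2⟩ := finite_lc (finite_H_pi 1 κ h1) (finite_H_pi 2 κ h2)
    (finite_H_pi 1 ι (finite_H_pi 1 κ h1)) Φ Si (fun i => L i + k i) hret
  let e' : ModuleCat.of R N ⟶ ModuleCat.of R M := ModuleCat.ofHom N.subtype
  have hker : LinearMap.ker e'.hom ≤ DRing.torsionSub I N := by
    rw [show e'.hom = N.subtype from rfl, Submodule.ker_subtype]
    exact bot_le
  have hcok : LocCoh.IsPowerTorsion I (M ⧸ LinearMap.range e'.hom) := by
    rw [show e'.hom = N.subtype from rfl, Submodule.range_subtype]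
    exact (isPowerTorsion_quotient_iff N).2 hcov
  have hD : Module.Finite R ((LocCoh.idealTransform I).obj (ModuleCat.of R N)) := by
    let π := ((cokerToDTEquiv I (ModuleCat.of R N)).toLinearMap ∘ₗ
      (LinearMap.range (LocCoh.toDT I (ModuleCat.of R N))).mkQ)
    refine finite_of_exact (f := LocCoh.toDT I (ModuleCat.of R N)) (g := π) (fun y => ?_)
      inferInstance hN1
    rw [LinearMap.comp_apply, LinearEquiv.coe_coe, LinearEquiv.map_eq_zero_iff,
      Submodule.mkQ_apply, Submodule.Quotient.mk_eq_zero]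
    rfl
  refine ⟨?_, Module.Finite.equiv (M := LocCoh.H I 2 N)
    (LinearEquiv.ofBijective _ (lc_map_bijective I e' hker hcok 0))⟩
  exact Module.Finite.equiv (M := ((LocCoh.idealTransform I).obj (ModuleCat.of R N)))
    ((LinearEquiv.ofBijective _ (transform_map_bijective I e' hker hcok)).trans
      (LinearEquiv.ofBijective _ hM.toDT_bijective).symm)

end Groth.Agent.H99.FEtAlg
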