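import Groth.Agent.H80.Clopen.Torsion.Numer
import Groth.Agent.H80.Clopen.Basic

/-!
# Modules equal to their ideal transform, through numerators
-/

set_option autoImplicit false
set_option linter.unusedSectionVars false
set_option backward.isDefEq.respectTransparency false

universe u

open CategoryTheory Opposite Groth.Agent.Lib.LocalCoh
open Groth.Agent.H80.Clopen (exists_common)

namespace Groth.Agent.H99.FEtAlg

variable {R : Type u} [CommRing R] {ι : Type} (a : ι → R)

local notation "II" => Ideal.span (Set.range a)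

/-- Sections on the charts glue uniquely to global elements. -/
structure Sat (M : Type u) [AddCommGroup M] [Module R M] : Prop where
  sep : ∀ x : M, (∀ i, ∃ l : ℕ, a i ^ l • x = 0) → x = 0
  glue : ∀ (k : ℕ) (m : ι → M), (∀ i j, a j ^ k • m i = a i ^ k • m j) →
    ∃ x : M, ∀ i, ∃ l : ℕ, a i ^ l • (a i ^ k • x - m i) = 0

variable {a} [Finite ι] {M : Type u} [AddCommGroup M] [Module R M]

lemma mem_torsionSub_iff (x : M) :
    x ∈ DRing.torsionSub II M ↔ ∀ i, ∃ l : ℕ, a i ^ l • x = 0 := by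
  constructor
  · rintro ⟨n, hn⟩ i
    exact ⟨n, hn _ (Ideal.pow_mem_pow (Ideal.subset_span (Set.mem_range_self i)) n)⟩
  · intro h
    obtain ⟨L, hL⟩ := exists_common (⊥ : Submodule R M) a (fun _ => x)
      fun i => (h i).imp fun l hl => (Submodule.mem_bot R).2 hl
    obtain ⟨P, hP⟩ := H80.Clopen.Torsion.exists_pow_le_span_pow a L
    refine ⟨P, fun r hr => ?_⟩
    have h2 : r ∈ Ideal.span (Set.range fun i => a i ^ L) := hP hr
    clear hr
    induction h2 using Submodule.span_induction with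
    | mem z hz => obtain ⟨i, rfl⟩ := hz; exact (Submodule.mem_bot R).1 (hL i)
    | zero => exact zero_smul _ _
    | add y z _ _ hy hz => rw [add_smul, hy, hz, add_zero]
    | smul c z _ hz => rw [smul_eq_mul, mul_smul, hz, smul_zero]

lemma isPowerTorsion_quotient_iff (N : Submodule R M) :
    LocCoh.IsPowerTorsion II (M ⧸ N) ↔ ∀ (x : M) i, ∃ l : ℕ, a i ^ l • x ∈ N := by
  constructor
  · intro h x i
    obtain ⟨l, hl⟩ := (mem_torsionSub_iff (a := a) (Submodule.Quotient.mk x : M ⧸ N)).1 (h _) i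
    rw [← Submodule.Quotient.mk_smul, Submodule.Quotient.mk_eq_zero] at hl
    exact ⟨l, hl⟩
  · intro h x
    obtain ⟨x, rfl⟩ := Submodule.Quotient.mk_surjective N x
    refine (mem_torsionSub_iff (a := a) (Submodule.Quotient.mk x : M ⧸ N)).2 fun i => (h x i).imp fun l hl => ?_
    rw [← Submodule.Quotient.mk_smul, Submodule.Quotient.mk_eq_zero]
    exact hl

namespace Sat

variable (hM : Sat a M)
include hM

lemma torsionSub_eq_bot : DRing.torsionSub II M = ⊥ :=
  (Submodule.eq_bot_iff _).2 fun x hx => hM.sep x ((mem_torsionSub_iff x).1 hx)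

omit [Finite ι] in
lemma eq_of (x y : M) (h : ∀ i, ∃ l : ℕ, a i ^ l • x = a i ^ l • y) : x = y :=
  sub_eq_zero.1 (hM.sep _ fun i => (h i).imp fun l hl => by rw [smul_sub, hl, sub_self])

variable [IsNoetherianRing R]

theorem toDT_bijective : Function.Bijective (LocCoh.toDT II (ModuleCat.of R M)) := by
  constructor
  · rw [← LinearMap.ker_eq_bot, ker_toDT]
    exact hM.torsionSub_eq_bot
  · intro y
    obtain ⟨K, φ, rfl⟩ := exists_tι II (ModuleCat.of R M) y
    let n := K.unop.unop
    let ψ : ↥(II ^ n) →ₗ[R] M := φ.hom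
    have hmem : ∀ i, a i ^ n ∈ II ^ n := fun i =>
      Ideal.pow_mem_pow (Ideal.subset_span (Set.mem_range_self i)) n
    let m : ι → M := fun i => ψ ⟨a i ^ n, hmem i⟩
    obtain ⟨x, hx⟩ := hM.glue n m fun i j => by
      rw [← map_smul, ← map_smul]
      exact congrArg ψ (Subtype.ext (mul_comm _ _))
    refine ⟨x, ?_⟩
    rw [toDT_eq_tι II (ModuleCat.of R M) K]
    refine congrArg _ (ModuleCat.hom_ext (LinearMap.ext fun (r : ↥(II ^ n)) => ?_))
    show (r : R) • x = ψ r
    refine hM.eq_of _ _ fun i => ?_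
    obtain ⟨l, hl⟩ := hx i
    refine ⟨n + l, ?_⟩
    have h1 : a i ^ n • ψ r = (r : R) • m i := by
      rw [← map_smul, ← map_smul]
      exact congrArg ψ (Subtype.ext (mul_comm _ _))
    rw [smul_sub, sub_eq_zero] at hl
    calc a i ^ (n + l) • (r : R) • x = (r : R) • (a i ^ l • a i ^ n • x) := by
          rw [smul_comm, pow_add, mul_comm, mul_smul]
      _ = a i ^ l • (r : R) • m i := by rw [hl, smul_comm]
      _ = a i ^ (n + l) • ψ r := by rw [← h1, pow_add, mul_comm, mul_smul]

omit [IsNoetherianRing R] in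
/-- A map with torsion kernel and an element locally in the range. -/
theorem mem_range {W : Type u} [AddCommGroup W] [Module R W] (hW : Sat a W) (φ : W →ₗ[R] M)
    (hφ : Function.Injective φ) (y : M) (hy : ∀ i, ∃ l : ℕ, a i ^ l • y ∈ LinearMap.range φ) :
    y ∈ LinearMap.range φ := by
  obtain ⟨L, hL⟩ := exists_common (LinearMap.range φ) a (fun _ => y) hy
  choose w hw using fun i => hL i
  obtain ⟨x, hx⟩ := hW.glue L w fun i j => hφ (by
    rw [map_smul, map_smul, hw, hw, smul_comm])
  refine ⟨x, hM.eq_of _ _ fun i => ?_⟩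
  obtain ⟨l, hl⟩ := hx i
  refine ⟨l + L, ?_⟩
  rw [smul_sub, sub_eq_zero] at hl
  have h2 := congrArg φ hl
  rw [map_smul, map_smul, map_smul, hw] at h2
  rw [pow_add, mul_smul, mul_smul, h2]

/-- Maps into a saturated module extend uniquely along maps with torsion kernel and cokernel. -/
theorem exists_extend {N N' : Type u} [AddCommGroup N] [Module R N] [AddCommGroup N'] [Module R N']
    (e : N →ₗ[R] N') (hker : ∀ x, e x = 0 → ∀ i, ∃ l : ℕ, a i ^ l • x = 0)
    (hcoker : ∀ (y : N') i, ∃ l : ℕ, a i ^ l • y ∈ LinearMap.range e) (ψ : N →ₗ[R] M) :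
    ∃ g : N' →ₗ[R] M, ∀ x, g (e x) = ψ x := by
  have hk : LinearMap.ker e ≤ DRing.torsionSub II N :=
    fun x hx => (mem_torsionSub_iff x).2 (hker x hx)
  have hc : LocCoh.IsPowerTorsion II (N' ⧸ LinearMap.range e) :=
    (isPowerTorsion_quotient_iff _).2 hcoker
  let eM := LinearEquiv.ofBijective (LocCoh.toDT II (ModuleCat.of R M)) hM.toDT_bijective
  refine ⟨eM.symm.toLinearMap ∘ₗ factorDT II (ModuleCat.ofHom e) hk hc (ModuleCat.ofHom ψ),
    fun x => ?_⟩
  rw [LinearMap.comp_apply, LinearEquiv.coe_coe, LinearEquiv.symm_apply_eq]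
  exact LinearMap.congr_fun (factorDT_comp II (ModuleCat.ofHom e) hk hc (ModuleCat.ofHom ψ)) x

omit [IsNoetherianRing R] [Finite ι] in
lemma ext_on {N' : Type u} [AddCommGroup N'] [Module R N'] (S : Submodule R N')
    (hS : ∀ (y : N') i, ∃ l : ℕ, a i ^ l • y ∈ S) {f g : N' →ₗ[R] M}
    (h : ∀ y ∈ S, f y = g y) : f = g :=
  LinearMap.ext fun y => hM.eq_of _ _ fun i => (hS y i).imp fun l hl => by
    rw [← map_smul, ← map_smul]; exact h _ hl

end Sat

end Groth.Agent.H99.FEtAlg
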