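import Groth.Agent.H99.FEtAlg.Charts
import Groth.Agent.S0238
import Groth.Prelude.Def_FEt

/-!
# Covers of the thickenings and their algebra of sections
-/

set_option autoImplicit false
set_option linter.unusedSectionVars false
set_option linter.style.haveILetI false
set_option backward.isDefEq.respectTransparency false

noncomputable section

universe u

open CategoryTheory CategoryTheory.Limits AlgebraicGeometry IsLocalRing
open Groth.Agent.H80.Clopen (str basicOpen_str res res_res mem_puncturedSpec_iff)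

namespace Groth.Agent.H99.FEtAlg

variable {A : Type u} [CommRing A] [IsNoetherianRing A] [IsLocalRing A] (f : A)

/-- The closed subscheme cut out by an ideal. -/
abbrev qI (I : Ideal A) : Spec (CommRingCat.of (A ⧸ I)) ⟶ Spec (CommRingCat.of A) :=
  Spec.map (CommRingCat.ofHom (Ideal.Quotient.mk I))

instance (I : Ideal A) : IsClosedImmersion (qI I) :=
  IsClosedImmersion.spec_of_surjective _ Ideal.Quotient.mk_surjective

/-- Its trace on the punctured spectrum. -/
abbrev PI (I : Ideal A) : Scheme.{u} := pullback (FEt.puncturedSpec A).ι (qI I)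

/-- The ideals of the thickenings. -/
abbrev Jn (n : ℕ) : Ideal A := Ideal.span {f ^ (n + 1)}

lemma Jn_le {n m : ℕ} (h : n ≤ m) : Jn f m ≤ Jn f n :=
  Ideal.span_singleton_le_span_singleton.2 (pow_dvd_pow f (by omega))

/-- The transition maps of the thickenings. -/
abbrev sn {n m : ℕ} (h : n ≤ m) :
    Spec (CommRingCat.of (A ⧸ Jn f n)) ⟶ Spec (CommRingCat.of (A ⧸ Jn f m)) :=
  Spec.map (CommRingCat.ofHom (Ideal.Quotient.factor (Jn_le f h)))

lemma sn_q {n m : ℕ} (h : n ≤ m) : sn f h ≫ qI (Jn f m) = qI (Jn f n) := by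
  rw [← Spec.map_comp]; rfl

lemma sn_comp {n m l : ℕ} (h : n ≤ m) (h' : m ≤ l) : sn f h ≫ sn f h' = sn f (h.trans h') := by
  rw [← cancel_mono (qI (Jn f l)), Category.assoc, sn_q, sn_q, sn_q]

/-- The transition maps on the punctured spectrum. -/
def inn (n : ℕ) : PI (Jn f n) ⟶ PI (Jn f (n + 1)) :=
  pullback.lift (pullback.fst _ _) (pullback.snd _ _ ≫ sn f (Nat.le_succ n))
    (by rw [Category.assoc, sn_q, pullback.condition])

lemma isPullback_inn (n : ℕ) :
    IsPullback (inn f n) (pullback.snd _ _) (pullback.snd _ _) (sn f (Nat.le_succ n)) := by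
  refine IsPullback.of_right (h₁₂ := pullback.fst (FEt.puncturedSpec A).ι (qI (Jn f (n + 1))))
    (v₁₃ := (FEt.puncturedSpec A).ι) (h₂₂ := qI (Jn f (n + 1))) ?_ (pullback.lift_snd _ _ _)
    (IsPullback.of_hasPullback (FEt.puncturedSpec A).ι (qI (Jn f (n + 1)))).flip.flip
  rw [show inn f n ≫ pullback.fst _ _ = pullback.fst (FEt.puncturedSpec A).ι (qI (Jn f n)) from
    pullback.lift_fst _ _ _, sn_q]
  exact IsPullback.of_hasPullback (FEt.puncturedSpec A).ι (qI (Jn f n))

instance isClosedImmersion_inn (n : ℕ) : IsClosedImmersion (inn f n) := by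
  have : IsClosedImmersion (sn f (Nat.le_succ n)) :=
    IsClosedImmersion.spec_of_surjective _ (Ideal.Quotient.factor_surjective (Jn_le f (Nat.le_succ n)))
  exact MorphismProperty.of_isPullback (isPullback_inn f n).flip this

instance surjective_inn (n : ℕ) : Surjective (inn f n) := by
  have : Surjective (sn f (Nat.le_succ n)) := by
    constructor
    intro p
    let P : PrimeSpectrum (A ⧸ Jn f (n + 1)) := p
    have h1 : PrimeSpectrum.comap (Ideal.Quotient.mk (Jn f (n + 1))) P ∈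
        Set.range (PrimeSpectrum.comap (Ideal.Quotient.mk (Jn f n))) := by
      rw [range_comap_of_surjective _ _ Ideal.Quotient.mk_surjective, Ideal.mk_ker]
      refine (Ideal.span_singleton_le_iff_mem _).2 ?_
      have h0 : f ^ (n + 1 + 1) ∈ (PrimeSpectrum.comap (Ideal.Quotient.mk (Jn f (n + 1))) P).asIdeal := by
        show Ideal.Quotient.mk _ _ ∈ P.asIdeal
        rw [Ideal.Quotient.eq_zero_iff_mem.2 (Ideal.mem_span_singleton_self _)]
        exact P.asIdeal.zero_mem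
      exact Ideal.pow_mem_of_mem _ ((PrimeSpectrum.comap _ P).2.mem_of_pow_mem _ h0) _ n.succ_pos
    obtain ⟨q, hq⟩ := h1
    refine ⟨q, (qI (Jn f (n + 1))).isClosedEmbedding.injective ?_⟩
    rw [← Scheme.Hom.comp_apply, sn_q]
    exact hq
  exact MorphismProperty.of_isPullback (isPullback_inn f n).flip this

/-- The covers of the thickenings lifting a cover of the trace. -/
def Vn (V₀ : FEt.Cat (PI (Jn f 0))) : ∀ n, FEt.Cat (PI (Jn f n))
  | 0 => V₀
  | n + 1 =>
    haveI := Groth.Agent.S0238.result (inn f n)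
    (FEt.restrict (inn f n)).objPreimage (Vn V₀ n)

variable (V₀ : FEt.Cat (PI (Jn f 0)))

/-- The iso of a cover with the restriction of the next. -/
def eIso (n : ℕ) : (FEt.restrict (inn f n)).obj (Vn f V₀ (n + 1)) ≅ Vn f V₀ n :=
  haveI := Groth.Agent.S0238.result (inn f n)
  (FEt.restrict (inn f n)).objObjPreimageIso (Vn f V₀ n)

/-- The structure map to the thickening of the whole spectrum. -/
abbrev vn (n : ℕ) : (Vn f V₀ n).left ⟶ Spec (CommRingCat.of (A ⧸ Jn f n)) :=
  (Vn f V₀ n).hom ≫ pullback.snd _ _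

/-- The structure map to the spectrum. -/
abbrev wn (n : ℕ) : (Vn f V₀ n).left ⟶ Spec (CommRingCat.of A) :=
  vn f V₀ n ≫ qI (Jn f n)

lemma exists_jn (n : ℕ) : ∃ j : (Vn f V₀ n).left ⟶ (Vn f V₀ (n + 1)).left,
    IsPullback j (vn f V₀ n) (vn f V₀ (n + 1)) (sn f (Nat.le_succ n)) := by
  let e := ((MorphismProperty.Over.forget _ _ _) ⋙ Over.forget _).mapIso (eIso f V₀ n)
  have he : e.inv ≫ pullback.snd (Vn f V₀ (n + 1)).hom (inn f n) = (Vn f V₀ n).hom :=
    Over.w (eIso f V₀ n).inv.hom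
  refine ⟨e.inv ≫ pullback.fst (Vn f V₀ (n + 1)).hom (inn f n), ?_⟩
  refine IsPullback.paste_vert ?_ (isPullback_inn f n)
  refine (IsPullback.of_hasPullback (Vn f V₀ (n + 1)).hom (inn f n)).of_iso e (Iso.refl _) (Iso.refl _)
    (Iso.refl _) ?_ ?_ (by simp) (by simp)
  · simp
  · rw [Iso.refl_hom, Category.comp_id, ← he, ← Category.assoc, e.hom_inv_id]
    exact (Category.id_comp _).symm

/-- The diagram of covers. -/
def diag : ℕ ⥤ Scheme.{u} :=
  Functor.ofSequence (X := fun n => (Vn f V₀ n).left) fun n => (exists_jn f V₀ n).choose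

/-- The transition maps of the covers. -/
abbrev jmap {n m : ℕ} (h : n ≤ m) : (Vn f V₀ n).left ⟶ (Vn f V₀ m).left :=
  (diag f V₀).map (homOfLE h)

lemma jmap_comp {n m l : ℕ} (h : n ≤ m) (h' : m ≤ l) :
    jmap f V₀ h ≫ jmap f V₀ h' = jmap f V₀ (h.trans h') :=
  ((diag f V₀).map_comp _ _).symm

lemma jmap_succ (n : ℕ) : jmap f V₀ (Nat.le_succ n) = (exists_jn f V₀ n).choose :=
  Functor.ofSequence_map_homOfLE_succ _ n

lemma isPullback_jmap {n m : ℕ} (h : n ≤ m) :
    IsPullback (jmap f V₀ h) (vn f V₀ n) (vn f V₀ m) (sn f h) := by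
  induction h with
  | refl =>
    have h1 : jmap f V₀ (le_refl n) = 𝟙 _ := (diag f V₀).map_id n
    have h2 : sn f (le_refl n) = 𝟙 _ := by
      rw [← cancel_mono (qI (Jn f n)), sn_q, Category.id_comp]
    rw [h1, h2]
    exact IsPullback.of_horiz_isIso ⟨by simp⟩
  | @step m h ih =>
    have hp : IsPullback (jmap f V₀ (Nat.le_succ m)) (vn f V₀ m) (vn f V₀ (m + 1)) (sn f (Nat.le_succ m)) := by
      rw [jmap_succ]; exact (exists_jn f V₀ m).choose_spec
    have := ih.paste_horiz hp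
    rwa [jmap_comp, sn_comp] at this

lemma jmap_w {n m : ℕ} (h : n ≤ m) : jmap f V₀ h ≫ wn f V₀ m = wn f V₀ n := by
  rw [← Category.assoc, (isPullback_jmap f V₀ h).w, Category.assoc, sn_q]

instance isClosedImmersion_jmap {n m : ℕ} (h : n ≤ m) : IsClosedImmersion (jmap f V₀ h) := by
  have : IsClosedImmersion (sn f h) :=
    IsClosedImmersion.spec_of_surjective _ (Ideal.Quotient.factor_surjective (Jn_le f h))
  exact MorphismProperty.of_isPullback (isPullback_jmap f V₀ h).flip this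

instance etale_vn (n : ℕ) : Etale (vn f V₀ n) := by
  have : Etale (Vn f V₀ n).hom := (Vn f V₀ n).prop.2
  infer_instance

lemma wn_eq (n : ℕ) :
    wn f V₀ n = ((Vn f V₀ n).hom ≫ pullback.fst _ _) ≫ (FEt.puncturedSpec A).ι := by
  show ((Vn f V₀ n).hom ≫ pullback.snd _ _) ≫ _ = _
  rw [Category.assoc, Category.assoc, pullback.condition]

variable {ι : Type} {a : ι → A} (ha : Ideal.span (Set.range a) = maximalIdeal A)
include ha

theorem chart (n : ℕ) : Chart a (wn f V₀ n) := by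
  let U := FEt.puncturedSpec A
  let q := (Vn f V₀ n).hom ≫ pullback.fst U.ι (qI (Jn f n))
  have hw : wn f V₀ n = q ≫ U.ι := wn_eq f V₀ n
  have : IsFinite (Vn f V₀ n).hom := (Vn f V₀ n).prop.1
  have : IsFinite q := inferInstance
  have : CompactSpace ↥(U : Scheme.{u}) := isCompact_iff_compactSpace.mp
    (TopologicalSpace.NoetherianSpace.isCompact (α := PrimeSpectrum A) _)
  refine ⟨QuasiCompact.compactSpace_of_compactSpace q, quasiSeparatedSpace_of_quasiSeparated q,
    fun i => ?_, top_le_iff.mp fun x _ => ?_⟩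
  · rw [basicOpen_str, hw]
    show IsAffineOpen (q ⁻¹ᵁ (U.ι ⁻¹ᵁ PrimeSpectrum.basicOpen (a i)))
    refine IsAffineOpen.preimage ?_ q
    refine IsAffineOpen.preimage_of_isOpenImmersion (f := U.ι) ?_ ?_
    · rw [← basicOpen_eq_of_affine (R := CommRingCat.of A) (a i)]
      exact (isAffineOpen_top _).basicOpen _
    · rw [Scheme.Opens.opensRange_ι]
      exact fun p hp => (mem_puncturedSpec_iff ha p).mpr ⟨i, hp⟩
  · obtain ⟨i, hi⟩ := (mem_puncturedSpec_iff ha _).mp (q.base x).2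
    refine TopologicalSpace.Opens.mem_iSup.mpr ⟨i, ?_⟩
    rw [basicOpen_str, hw]
    exact hi

/-- The sections. -/
abbrev Mn (n : ℕ) : Type u := Γ((Vn f V₀ n).left, ⊤)

omit ha in
@[implicit_reducible]
def algMn (n : ℕ) : Algebra A (Mn f V₀ n) := (str (wn f V₀ n)).toAlgebra

attribute [local instance] algMn

omit ha in
/-- The transition maps on sections. -/
def trMn {n m : ℕ} (h : n ≤ m) : Mn f V₀ m →ₐ[A] Mn f V₀ n :=
  { (jmap f V₀ h).appTop.hom with
    commutes' := fun r => by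
      have := RingHom.congr_fun ((appTop_str (jmap f V₀ h) (wn f V₀ m)).trans
        (congrArg str (jmap_w f V₀ h))) r
      exact this }

omit ha in
lemma str_fpow_eq_zero (n : ℕ) : str (wn f V₀ n) (f ^ (n + 1)) = 0 := by
  rw [str_comp, RingHom.comp_apply, Ideal.Quotient.eq_zero_iff_mem.2 (Ideal.mem_span_singleton_self _),
    map_zero]

theorem isSys [Finite ι] (hf : f ∈ nonZeroDivisors A) :
    IsSys a f (Mn f V₀) (fun h => trMn f V₀ h) where
  tr_tr h h' x := by
    show (jmap f V₀ h).appTop ((jmap f V₀ h').appTop x) = (jmap f V₀ (h.trans h')).appTop x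
    rw [← CommRingCat.comp_apply, ← Scheme.Hom.comp_appTop, jmap_comp]
  tr_refl n x := by
    show (jmap f V₀ (le_refl n)).appTop x = x
    rw [show jmap f V₀ (le_refl n) = 𝟙 _ from (diag f V₀).map_id n, Scheme.Hom.id_appTop]
    rfl
  sat n := (chart f V₀ ha n).sat
  kill n x := by
    rw [Algebra.smul_def]
    exact mul_eq_zero_of_left (str_fpow_eq_zero f V₀ n) _
  coker {n m} h y i := by
    have hc : Chart a (jmap f V₀ h ≫ wn f V₀ m) := (jmap_w f V₀ h).symm ▸ chart f V₀ ha n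
    obtain ⟨l, x, hx⟩ := chart_coker (jmap f V₀ h) (chart f V₀ ha m) hc y i
    refine ⟨l, x, ?_⟩
    rw [Algebra.smul_def, map_pow]
    refine hx.trans ?_
    rw [jmap_w]
    rfl
  ker {n m} h x hx i := by
    obtain ⟨l, z, hz⟩ := chart_ker n rfl (Jn_le f h) (jmap f V₀ h) (vn f V₀ m) (vn f V₀ n)
      (isPullback_jmap f V₀ h) rfl (chart f V₀ ha m) x hx i
    refine ⟨l, z, ?_⟩
    rw [Algebra.smul_def, Algebra.smul_def, map_pow]
    exact hz
  reg n x hx i := by
    have : Flat (vn f V₀ (n + 1)) := inferInstance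
    rw [Algebra.smul_def] at hx
    obtain ⟨l, z, hz⟩ := chart_reg hf n rfl (vn f V₀ (n + 1)) rfl (chart f V₀ ha (n + 1)) x hx i
    refine ⟨l, z, ?_⟩
    rw [Algebra.smul_def, Algebra.smul_def, map_pow]
    exact hz

/-- The bottom is, on the charts, a retract of powers of the quotient. -/
theorem locallyRetract [Finite ι] : LocallyRetract (Mn f V₀ 0) a (A ⧸ Jn f 0) := by
  let I := Jn f 0
  let O : (Spec (CommRingCat.of (A ⧸ I))).Opens := qI I ⁻¹ᵁ FEt.puncturedSpec A
  let aI : ι → A ⧸ I := fun i => Ideal.Quotient.mk I (a i)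
  have hU : H80.Clopen.Cover aI O := ⟨fun p => mem_puncturedSpec_iff ha ((qI I).base p)⟩
  let k : PI I ≅ (O : Scheme.{u}) := IsOpenImmersion.isoOfRangeEq
    (pullback.snd (FEt.puncturedSpec A).ι (qI I)) O.ι (by
      rw [Scheme.Pullback.range_snd, Scheme.Opens.range_ι, Scheme.Opens.range_ι]
      rfl)
  have hk : k.hom ≫ O.ι = pullback.snd _ _ := IsOpenImmersion.isoOfRangeEq_hom_fac _ _ _
  have hq : FEt.prop.{u} ((Vn f V₀ 0).hom ≫ k.hom) :=
    (MorphismProperty.cancel_right_of_respectsIso FEt.prop.{u} _ k.hom).mpr (Vn f V₀ 0).prop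
  have hqι : ((Vn f V₀ 0).hom ≫ k.hom) ≫ O.ι = vn f V₀ 0 := by rw [Category.assoc, hk]
  letI : Algebra (A ⧸ I) (Mn f V₀ 0) := (str (((Vn f V₀ 0).hom ≫ k.hom) ≫ O.ι)).toAlgebra
  haveI : IsScalarTower A (A ⧸ I) (Mn f V₀ 0) := .of_algebraMap_eq' (by
    show str (wn f V₀ 0) = (str (((Vn f V₀ 0).hom ≫ k.hom) ≫ O.ι)).comp (Ideal.Quotient.mk I)
    rw [hqι, str_comp])
  have hloc : ∀ i, (∃ N : Submodule (A ⧸ I) (Mn f V₀ 0), N.FG ∧ ∀ x, ∃ l : ℕ, aI i ^ l • x ∈ N) ∧
      ∀ N : Submodule (A ⧸ I) (Mn f V₀ 0), N.FG → ∃ (r : ℕ) (h : N →ₗ[A ⧸ I] (Fin r → A ⧸ I))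
        (S : (Fin r → A ⧸ I) →ₗ[A ⧸ I] Mn f V₀ 0) (k : ℕ), ∀ x : N, S (h x) = aI i ^ k • (x : Mn f V₀ 0) :=
    fun i => H80.Clopen.exists_local hU ((Vn f V₀ 0).hom ≫ k.hom) hq i
  choose N hN hcov using fun i => (hloc i).1
  have hsup : (⨆ i, N i).FG := Submodule.fg_iSup _ hN
  haveI : Module.Finite (A ⧸ I) ↥(⨆ i, N i) := Module.Finite.iff_fg.2 hsup
  haveI : Module.Finite A (A ⧸ I) := inferInstance
  refine ⟨(⨆ i, N i).restrictScalars A,
    (Module.Finite.iff_fg (N := (⨆ i, N i).restrictScalars A)).1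
      (Module.Finite.trans (A ⧸ I) ↥(⨆ i, N i)),
    fun x i => ?_, fun i => ?_⟩
  · obtain ⟨l, hl⟩ := hcov i x
    refine ⟨l, ?_⟩
    have : a i ^ l • x = aI i ^ l • x := by
      rw [← algebraMap_smul (A ⧸ I) (a i ^ l) x, map_pow]
      rfl
    rw [this]
    exact Submodule.mem_iSup_of_mem i hl
  · obtain ⟨r, h, S, k, hk'⟩ := (hloc i).2 _ hsup
    refine ⟨r, h.restrictScalars A, S.restrictScalars A, k, fun x => (hk' x).trans ?_⟩
    rw [← algebraMap_smul (A ⧸ I) (a i ^ k) (x : Mn f V₀ 0), map_pow]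
    rfl

/-- The algebra. -/
theorem exists_algebra [IsAdicComplete (Ideal.span {f}) A] [Finite ι] (hf : f ∈ nonZeroDivisors A)
    (h1 : Module.Finite A (LocCoh.H (maximalIdeal A) 1 (A ⧸ Jn f 0)))
    (h2 : Module.Finite A (LocCoh.H (maximalIdeal A) 2 (A ⧸ Jn f 0))) :
    ∃ (B : Type u) (_ : CommRing B) (_ : Algebra A B), Module.Finite A B ∧
      (∀ x : B, f • x = 0 → x = 0) ∧ ∃ g : B →ₐ[A] Mn f V₀ 0, (∀ x, g x = 0 ↔ ∃ y, x = f • y) ∧
        ∀ (y : Mn f V₀ 0) i, ∃ (l : ℕ) (x : B), g x = a i ^ l • y := by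
  rw [← ha] at h1 h2
  exact (isSys f V₀ ha hf).exists_algebraization h1 h2 (locallyRetract f V₀ ha)

end Groth.Agent.H99.FEtAlg
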